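import Cfsg.Agent.H724.TorCover
import Cfsg.Agent.H733.Tor.Hyp
import Cfsg.Agent.H103.Tor.Iface
import Cfsg.Agent.H390.FactsOrth
import Cfsg.Agent.H376.WordEmb
import Cfsg.Agent.H376.Coc
import Cfsg.Agent.LieClassical.PomegaCard
import Cfsg.Agent.H93.PReg.TorusS
import Cfsg.Agent.H93.PReg.Singer
import Cfsg.Agent.S0292
import Cfsg.Agent.S0293
import Cfsg.Agent.S0294

/-!
# S3235: the orthogonal groups in cross characteristic (task 1241, helper724)

`p ≥ 5`, `K` an orthogonal group in characteristic `r ≠ p`.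
* `numbers` : elements of odd order `(q^n - 1)/(q - 1)` bound `q` and the dimension;
* `small` : `5` and `7` cannot both divide `|K|` in small dimension;
* `row_oddCross`, `row_plusCross`, `row_minusCross`.
-/

set_option autoImplicit false

namespace Cfsg.Agent.H724.Tor

open Subgroup Matrix Module Cfsg
open Cfsg.Agent.H103.Tor Cfsg.Agent.H733.Tor
open Cfsg.Agent.LieClassical.OrthCount Cfsg.Agent.LieClassical.OmegaReindex Cfsg.Agent.LieClassical
open Cfsg.Agent.H390

/-! ### numbers -/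

theorem gs_mono {a b : ℕ} (h : a ≤ b) (n : ℕ) : ∑ i ∈ Finset.range n, a ^ i ≤ ∑ i ∈ Finset.range n, b ^ i :=
  Finset.sum_le_sum fun i _ => Nat.pow_le_pow_left h i

theorem gs_succ (a n : ℕ) : ∑ i ∈ Finset.range (n + 1), a ^ i = a * ∑ i ∈ Finset.range n, a ^ i + 1 := geom_sum_succ

theorem gs_grow {a n₀ : ℕ} (ha : 2 ≤ a) (h0 : 4 * n₀ + 7 ≤ ∑ i ∈ Finset.range n₀, a ^ i) {n : ℕ} (hn : n₀ ≤ n) :
    4 * n + 7 ≤ ∑ i ∈ Finset.range n, a ^ i := by
  induction n, hn using Nat.le_induction with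
  | base => exact h0
  | succ n _ ih =>
    rw [gs_succ]
    have := Nat.mul_le_mul_right (∑ i ∈ Finset.range n, a ^ i) ha
    omega

theorem gs_grow' {a n₀ : ℕ} (ha : 2 ≤ a) (h0 : 4 * n₀ + 11 ≤ ∑ i ∈ Finset.range n₀, a ^ i) {n : ℕ} (hn : n₀ ≤ n) :
    4 * n + 11 ≤ ∑ i ∈ Finset.range n, a ^ i := by
  induction n, hn using Nat.le_induction with
  | base => exact h0
  | succ n _ ih =>
    rw [gs_succ]
    have := Nat.mul_le_mul_right (∑ i ∈ Finset.range n, a ^ i) ha
    omega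

theorem odd_gs_even {q : ℕ} (hq : Even q) {n : ℕ} (hn : n ≠ 0) : Odd (∑ i ∈ Finset.range n, q ^ i) := by
  obtain ⟨k, rfl⟩ := Nat.exists_eq_succ_of_ne_zero hn
  rw [Nat.succ_eq_add_one, gs_succ]
  obtain ⟨c, hc⟩ := hq
  exact ⟨c * ∑ i ∈ Finset.range k, q ^ i, by rw [hc]; ring⟩

theorem odd_gs_odd {q : ℕ} (hq : Odd q) {n : ℕ} (hn : Odd n) : Odd (∑ i ∈ Finset.range n, q ^ i) := by
  obtain ⟨k, rfl⟩ := hn
  induction k with
  | zero => simp
  | succ k ih =>
    rw [show 2 * (k + 1) + 1 = (2 * k + 1) + 1 + 1 by ring, gs_succ, gs_succ]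
    obtain ⟨c, hc⟩ := hq
    obtain ⟨e, he⟩ := ih
    rw [he, hc]
    exact ⟨4 * c * c * e + 2 * c * c + 4 * c * e + 3 * c + e + 1, by ring⟩

/-- **Bounds.** -/
theorem numbers {q d N : ℕ} (hq : 2 ≤ q) (hd : 3 ≤ d) (hN : N ≤ 2 * d + 2)
    (h : ∀ n : ℕ, n ≠ 0 → n ≤ d → Odd (∑ i ∈ Finset.range n, q ^ i) → ∑ i ∈ Finset.range n, q ^ i ≤ 2 * N + 2) :
    (q = 2 ∨ q = 3) ∧ d ≤ 4 := by
  rcases Nat.even_or_odd q with he | ho
  · have h1 := h d (by omega) le_rfl (odd_gs_even he (by omega))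
    by_cases h2 : q = 2
    · subst h2
      refine ⟨Or.inl rfl, ?_⟩
      by_contra hcon
      have := gs_grow (a := 2) (n₀ := 5) le_rfl (by decide) (n := d) (by omega)
      omega
    · exfalso
      obtain ⟨c, hc⟩ := he
      have h3 := gs_mono (a := 4) (b := q) (by omega) d
      have := gs_grow (a := 4) (n₀ := 3) (by norm_num) (by decide) (n := d) (by omega)
      omega
  · obtain ⟨n, hn, hnd, hnd', hn3⟩ : ∃ n : ℕ, Odd n ∧ n ≤ d ∧ d ≤ n + 1 ∧ (d ≤ 4 ∨ 5 ≤ n) := by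
      rcases Nat.even_or_odd d with hd2 | hd2
      · obtain ⟨c, hc⟩ := hd2
        exact ⟨d - 1, ⟨c - 1, by omega⟩, by omega, by omega, by omega⟩
      · obtain ⟨c, hc⟩ := hd2
        exact ⟨d, ⟨c, hc⟩, le_rfl, by omega, by omega⟩
    have hn2 : 3 ≤ n := by
      obtain ⟨c, hc⟩ := hn
      omega
    have h1 := h n (by omega) hnd (odd_gs_odd ho hn)
    by_cases h3 : q = 3
    · subst h3
      refine ⟨Or.inr rfl, ?_⟩
      rcases hn3 with h4 | h4
      · exact h4
      · exfalso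
        have := gs_grow' (a := 3) (n₀ := 5) (by norm_num) (by decide) (n := n) h4
        omega
    · exfalso
      obtain ⟨c, hc⟩ := ho
      have h5 := gs_mono (a := 5) (b := q) (by omega) n
      have := gs_grow' (a := 5) (n₀ := 3) (by norm_num) (by decide) (n := n) hn2
      omega

/-- **Small dimension.** -/
theorem small {p r N : ℕ} (hp : p.Prime) (hp5 : 5 ≤ p) (hr : r.Prime) {K : Type*} [Group K] [Finite K]
    (h : Reg p r N K) (hN : N ≤ 10) (h5 : r ≠ 5) (h7 : r ≠ 7) (d5 : 5 ∣ Nat.card K) (d7 : 7 ∣ Nat.card K) : False := by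
  have key : ∀ s : ℕ, s.Prime → s ≠ r → s ≠ 2 → s ∣ Nat.card K → s = p ∨ s ∣ p - 1 ∨ s ∣ p + 1 := by
    intro s hs hsr hs2 hd
    rcases h.prime_cases hp hs hsr hr hd with h1 | h1 | ⟨m, hm, h1, h2⟩
    · exact absurd h1 hs2
    · exact Or.inl h1
    · right
      have hm1 : m = 1 := by
        by_contra hcon
        have h3 : p ^ 2 ≤ p ^ m := Nat.pow_le_pow_right (by omega) (by omega)
        have h4 : 5 ^ 2 ≤ p ^ 2 := Nat.pow_le_pow_left hp5 2
        omega
      subst hm1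
      rwa [pow_one] at h2
  have hle := h.le
  have hp21 : p ≤ 21 := by omega
  have e5 := key 5 (by norm_num) h5.symm (by norm_num) d5
  have e7 := key 7 (by norm_num) h7.symm (by norm_num) d7
  interval_cases p <;> first | omega | (exfalso; revert hp; norm_num)

/-! ### elements -/

section Elements

variable {F : Type} [Field F] [Fintype F] {ι : Type} [Fintype ι] [DecidableEq ι]

/-- matrices -/
def slM (n : ℕ) (F : Type) [Field F] : Matrix.SpecialLinearGroup (Fin n) F →* Matrix (Fin n) (Fin n) F where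
  toFun A := A.1
  map_one' := rfl
  map_mul' _ _ := rfl

theorem exists_isom_order {Q : (ι → F) → F} {n : ℕ} (hn : n ≠ 0)
    (hφ : ∃ φ : Matrix.SpecialLinearGroup (Fin n) F →* Cfsg.isometryGroup F Q, Function.Injective φ) :
    ∃ X : Cfsg.isometryGroup F Q, orderOf X = ∑ i ∈ Finset.range n, (Fintype.card F) ^ i := by
  have hq : 2 ≤ Fintype.card F := Fintype.one_lt_card
  rw [Nat.geomSum_eq hq]
  obtain ⟨K, _, _, t, x, hx, hord⟩ := H93.PReg.Singer.sl_one (F := F) n hn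
  obtain ⟨φ, hφ⟩ := hφ
  have hfin : Finite (Matrix.SpecialLinearGroup (Fin n) F) := Subtype.finite
  have h1 : orderOf x ∣ orderOf t := H93.PReg.orderOf_root_dvd (ρ := slM n F) t x hx
  have h0 : 0 < orderOf t := orderOf_pos t
  obtain ⟨c, hc⟩ := h1
  have hc0 : c ≠ 0 := by
    rintro rfl
    rw [mul_zero] at hc
    omega
  have hx0 : 0 < orderOf x := Nat.pos_of_ne_zero (by
    intro h2
    rw [h2, zero_mul] at hc
    omega)
  refine ⟨φ (t ^ c), ?_⟩
  rw [orderOf_injective φ hφ, orderOf_pow, hc, Nat.gcd_mul_left_left, Nat.mul_div_cancel _ (Nat.pos_of_ne_zero hc0),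
    hord]

/-- the matrices of the elements of `Ω` -/
def omM (Q : (ι → F) → F) : Cfsg.Omega F Q →* Matrix ι ι F :=
  ((Units.coeHom (Matrix ι ι F)).comp (Cfsg.isometryGroup F Q).subtype).comp (Cfsg.Omega F Q).subtype

theorem omM_injective (Q : (ι → F) → F) : Function.Injective (omM Q) := by
  intro a b h
  exact Subtype.ext (Subtype.ext (Units.ext h))

/-- **The general argument.** -/
theorem orth_main {p r d N : ℕ} (hp : p.Prime) (hp5 : 5 ≤ p) (hr : r.Prime) (hrp : r ≠ p) [CharP F r] {K : Type*}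
    [Group K] [Finite K] [IsSimpleGroup K] (hK : LieHyp r K) {Q : QuadraticForm F (ι → F)} (hD : Lift.Data Q)
    {Qf : (ι → F) → F} (hQf : ⇑Q = Qf) (e : K ≃* POmega F Qf) (hN : Fintype.card ι = N) (hd : 3 ≤ d)
    (hNd : N ≤ 2 * d + 2)
    (hsl' : ∃ φ : Matrix.SpecialLinearGroup (Fin d) F →* Cfsg.isometryGroup F Qf, Function.Injective φ)
    (h57 : (Fintype.card F = 2 ∨ Fintype.card F = 3) → 5 ∣ Nat.card K ∧ 7 ∣ Nat.card K) {A : Subgroup K}
    (hA : Pr p A) : False := by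
  subst hQf
  have hsl : ∀ n, n ≤ d → ∃ φ : Matrix.SpecialLinearGroup (Fin n) F →* Cfsg.isometryGroup F (⇑Q),
      Function.Injective φ := by
    intro n hn
    obtain ⟨ψ, hψ⟩ := hsl'
    obtain ⟨χ, hχ, -⟩ := H376.Coc.exists_phi (F := F) (a := n) (b := 0) (n := d) (by omega)
    exact ⟨ψ.comp (χ.comp (MonoidHom.inl _ _)), hψ.comp (hχ.comp (fun a b hab => congrArg Prod.fst hab))⟩
  have hq : 2 ≤ Fintype.card F := Fintype.one_lt_card
  have hck : CK (e.symm.toMonoidHom.comp (QuotientGroup.mk' (Subgroup.center (Omega F (⇑Q))))) := by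
    refine ⟨e.symm.surjective.comp (QuotientGroup.mk'_surjective _), fun z hz => ?_⟩
    have h1 : (QuotientGroup.mk' (Subgroup.center (Omega F (⇑Q)))) z = 1 := by
      apply e.symm.injective
      rw [map_one]
      exact hz
    have h2 : z ∈ Subgroup.center (Omega F (⇑Q)) := (QuotientGroup.eq_one_iff z).1 h1
    exact ⟨fun g => mem_center_iff.1 h2 g, Lift.center_sq hD z h2⟩
  have hreg : Reg p r N K := reg_of_cover hp hp5 hck hr hrp hK hA hN (omM (⇑Q)) (omM_injective _)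
  obtain ⟨h1, h2⟩ := numbers (q := Fintype.card F) hq hd hNd (by
    intro n hn0 hn hodd
    obtain ⟨g, hg⟩ := Lift.exists_pomega hD hodd (exists_isom_order hn0 (hsl n hn))
    have hge : orderOf (e.symm g) = ∑ i ∈ Finset.range n, Fintype.card F ^ i := by
      rw [MulEquiv.orderOf_eq, hg]
    rw [← hge]
    refine hreg.orderOf_le hp hp5 ?_ ?_
    · rw [hge]
      obtain ⟨k, hk⟩ := Nat.exists_eq_succ_of_ne_zero hn0
      rw [hk, Nat.succ_eq_add_one, gs_succ]
      intro h3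
      have h4 : r ∣ Fintype.card F := by
        obtain ⟨m, -, hm⟩ := FiniteField.card F r
        rw [hm]
        exact dvd_pow_self r m.ne_zero
      have h5 := (Nat.dvd_add_right (Dvd.dvd.mul_right h4 _)).1 h3
      exact hr.one_lt.ne' (Nat.dvd_one.1 h5)
    · rw [hge]
      intro h3
      obtain ⟨k, hk⟩ := hodd
      omega)
  obtain ⟨d5, d7⟩ := h57 h1
  have hrq : r ∣ Fintype.card F := by
    obtain ⟨m, -, hm⟩ := FiniteField.card F r
    rw [hm]
    exact dvd_pow_self r m.ne_zero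
  have hr3 : r ≤ 3 := by
    rcases h1 with h1 | h1
    · rw [h1] at hrq
      have := Nat.le_of_dvd (by norm_num) hrq
      omega
    · rw [h1] at hrq
      exact Nat.le_of_dvd (by norm_num) hrq
  exact small hp hp5 hr hreg (by omega) (by omega) (by omega) d5 d7

end Elements

theorem dvd_of_mul {s c k : ℕ} (hs : s.Prime) (hs5 : 5 ≤ s) (hc : c ∣ 4) (h : s ∣ c * k) : s ∣ k := by
  rcases hs.dvd_mul.1 h with h1 | h1
  · have := Nat.le_of_dvd (by norm_num) (h1.trans hc)
    omega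
  · exact h1

theorem dvd57 {q n : ℕ} (hq : q = 2 ∨ q = 3) (hn : 3 ≤ n) :
    5 ∣ ∏ i ∈ Finset.range n, (q ^ (2 * (i + 1)) - 1) ∧ 7 ∣ ∏ i ∈ Finset.range n, (q ^ (2 * (i + 1)) - 1) := by
  constructor
  · refine Dvd.dvd.trans ?_ (Finset.dvd_prod_of_mem _ (Finset.mem_range.2 (show 1 < n by omega)))
    rcases hq with rfl | rfl <;> norm_num
  · refine Dvd.dvd.trans ?_ (Finset.dvd_prod_of_mem _ (Finset.mem_range.2 (show 2 < n by omega)))
    rcases hq with rfl | rfl <;> norm_num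

/-! ### the rows -/

section Rows

variable {p : ℕ} (hp : p.Prime) (hp5 : 5 ≤ p) {K : Type*} [Group K] [Finite K] [IsSimpleGroup K]

include hp hp5

/-- **Odd dimension.** -/
theorem row_oddCross (r : ℕ) (hr : r ≠ p) (h : Cfsg.IsPOmegaOddChar r K) : Cfsg.Agent.H103.Tor.Row p K := by
  intro A hA
  exfalso
  have h' := h
  obtain ⟨F, _, _, hc, m, hm, hodd, ⟨e⟩⟩ := h'
  have hr' : r.Prime := CharP.char_is_prime F r
  have hK : LieHyp r K := lieHyp hr' (Or.inr (Or.inr (Or.inr (Or.inl h))))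
  have h2 : (2 : F) ≠ 0 := PomegaCard.odd_card_iff.1 hodd
  have hcard : Fintype.card (Unit ⊕ (Fin m ⊕ Fin m)) = 2 * m + 1 := by simp; ring
  have hD : Lift.Data (quadOdd m F) := data_of _ (quadOdd_nondegenerate h2) (by rw [hcard]; omega)
    (quadOdd_isotropic (by omega)) (Or.inr (by rw [hcard]; omega))
  have hord := Cfsg.Agent.S0292.result (F := F) rfl hodd m hm
  refine orth_main hp hp5 hr' hr hK hD (coe_quadOdd m F) e hcard (d := m) hm (by omega) (H376.WordEmb.sl_odd m) ?_ hA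
  · intro hq
    rw [Nat.card_congr e.toEquiv]
    obtain ⟨h5, h7⟩ := dvd57 hq hm
    exact ⟨dvd_of_mul (by norm_num) le_rfl (by norm_num : 2 ∣ 4) (by rw [hord]; exact Dvd.dvd.mul_left h5 _),
      dvd_of_mul (by norm_num) (by norm_num) (by norm_num : 2 ∣ 4) (by rw [hord]; exact Dvd.dvd.mul_left h7 _)⟩

/-- **Plus type.** -/
theorem row_plusCross (r : ℕ) (hr : r ≠ p) (h : Cfsg.IsPOmegaPlusChar r K) : Cfsg.Agent.H103.Tor.Row p K := by
  intro A hA
  exfalso
  have h' := h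
  obtain ⟨F, _, _, hc, m, hm, ⟨e⟩⟩ := h'
  have hr' : r.Prime := CharP.char_is_prime F r
  have hK : LieHyp r K := lieHyp hr' (Or.inr (Or.inr (Or.inr (Or.inr (Or.inl h)))))
  have hcard : Fintype.card (Fin m ⊕ Fin m) = 2 * m := by simp; ring
  have hD : Lift.Data (quadPlus m F) := data_of _ quadPlus_nondegenerate (by rw [hcard]; omega)
    (quadPlus_isotropic (by omega)) (Or.inr (by rw [hcard]; omega))
  have hord := Cfsg.Agent.S0293.result (F := F) rfl m hm
  refine orth_main hp hp5 hr' hr hK hD (coe_quadPlus m F) e hcard (d := m) (by omega) (by omega)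
    (H376.WordEmb.sl_plus m) ?_ hA
  · intro hq
    rw [Nat.card_congr e.toEquiv]
    obtain ⟨h5, h7⟩ := dvd57 hq (n := m - 1) (by omega)
    exact ⟨dvd_of_mul (by norm_num) le_rfl (Nat.gcd_dvd_left 4 _) (by rw [hord]; exact Dvd.dvd.mul_left h5 _),
      dvd_of_mul (by norm_num) (by norm_num) (Nat.gcd_dvd_left 4 _) (by rw [hord]; exact Dvd.dvd.mul_left h7 _)⟩

/-- **Minus type.** -/
theorem row_minusCross (r : ℕ) (hr : r ≠ p) (h : Cfsg.IsPOmegaMinusChar r K) : Cfsg.Agent.H103.Tor.Row p K := by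
  intro A hA
  exfalso
  have h' := h
  obtain ⟨F, _, _, hc, m, a, b, hm, hab, ⟨e⟩⟩ := h'
  have hr' : r.Prime := CharP.char_is_prime F r
  have hK : LieHyp r K := lieHyp hr' (Or.inr (Or.inr (Or.inr (Or.inr (Or.inr (Or.inl h))))))
  have hcard : Fintype.card ((Fin (m - 1) ⊕ Fin (m - 1)) ⊕ Fin 2) = 2 * m := by simp; omega
  have hD : Lift.Data (quadMinus (m - 1) F a b) := data_of _ (quadMinus_nondegenerate hab) (by rw [hcard]; omega)
    (quadMinus_isotropic (by omega) a b) (Or.inr (by rw [hcard]; omega))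
  have hord := Cfsg.Agent.S0294.result (F := F) rfl m hm a b hab
  refine orth_main hp hp5 hr' hr hK hD (coe_quadMinus (m - 1) F a b) e hcard (d := m - 1) (by omega) (by omega)
    (H376.WordEmb.sl_minus (m - 1) a b) ?_ hA
  · intro hq
    rw [Nat.card_congr e.toEquiv]
    obtain ⟨h5, h7⟩ := dvd57 hq (n := m - 1) (by omega)
    exact ⟨dvd_of_mul (by norm_num) le_rfl (Nat.gcd_dvd_left 4 _) (by rw [hord]; exact Dvd.dvd.mul_left h5 _),
      dvd_of_mul (by norm_num) (by norm_num) (Nat.gcd_dvd_left 4 _) (by rw [hord]; exact Dvd.dvd.mul_left h7 _)⟩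

end Rows

end Cfsg.Agent.H724.Tor
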