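import Cfsg.Agent.H724.IMTool
import Cfsg.Agent.H413.JOneSpec

/-!
# Itô-Michler for `J₁` (helper724)
-/

set_option autoImplicit false

namespace Cfsg.Agent.H724.IMJOne

open Subgroup Cfsg Cfsg.Agent.H33 Cfsg.Agent.H665.NoPQ Cfsg.Agent.H713 Cfsg.Agent.H713.Count
open Cfsg.Agent.H724.IMTool Cfsg.Agent.H593.IMCyc

universe u

theorem card_j1 : Nat.card Spor.J1 = 175560 := H413.JOneLocal.card_J1

theorem card_cent_two {x : Spor.J1} (hx : orderOf x = 2) : Nat.card (centralizer ({x} : Set Spor.J1)) = 120 :=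
  Cfsg.Agent.H413.JOneSpec.card_cent_two H413.JOneLocal.isLocal hx

theorem card_cent_three {x : Spor.J1} (hx : orderOf x = 3) : Nat.card (centralizer ({x} : Set Spor.J1)) = 30 :=
  H413.JOneLocal.isLocal.cent3 x hx

theorem card_cent_five {x : Spor.J1} (hx : orderOf x = 5) : Nat.card (centralizer ({x} : Set Spor.J1)) = 30 :=
  H413.JOneLocal.isLocal.cent5 x hx

instance : Finite Spor.J1 := Nat.finite_of_card_ne_zero (by rw [card_j1]; norm_num)

theorem no_thirty (g : Spor.J1) : orderOf g ≠ 30 := by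
  intro h
  have h1 := (Cfsg.Agent.H413.JOneSpec.exists_orderOf_iff 30).1 ⟨g, h⟩
  exact absurd h1 (by decide)

theorem fac {q : ℕ} [Fact q.Prime] (h1 : q ∣ 175560) (h2 : ¬ q * q ∣ 175560) :
    (Nat.card Spor.J1).factorization q = 1 := by
  rw [card_j1]
  refine le_antisymm ?_ ((Nat.Prime.dvd_iff_one_le_factorization (Fact.out) (by norm_num)).1 h1)
  by_contra h
  push Not at h
  exact h2 (by
    have := (Nat.pow_dvd_pow q h).trans (Nat.ordProj_dvd 175560 q)
    rwa [show (1 : ℕ).succ = 2 from rfl, pow_two] at this)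

/-- centralizers of elements of order 7, 11, 19 -/
theorem cent {q : ℕ} [hq : Fact q.Prime] (hq' : q = 7 ∨ q = 11 ∨ q = 19) {x : Spor.J1} (hx : orderOf x = q) :
    Nat.card (centralizer ({x} : Set Spor.J1)) = q := by
  have h1 : ∀ y : Spor.J1, q ∣ orderOf y → orderOf y = q := by
    intro y hy
    have h2 := Cfsg.Agent.H413.JOneSpec.orderOf_mem_J1 y
    revert hy
    generalize orderOf y = n at h2 ⊢
    rcases hq' with rfl | rfl | rfl <;> (fin_cases h2 <;> norm_num)
  have hfac : (Nat.card Spor.J1).factorization q = 1 :=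
    fac (by rcases hq' with rfl | rfl | rfl <;> norm_num) (by rcases hq' with rfl | rfl | rfl <;> norm_num)
  -- every prime divisor of the centralizer is `q`
  have h3 : IsPGroup q (centralizer ({x} : Set Spor.J1)) := by
    rw [IsPGroup.iff_card]
    refine ⟨_, Nat.eq_prime_pow_of_unique_prime_dvd Nat.card_pos.ne' ?_⟩
    intro r hr hrd
    by_contra hne
    have : Fact r.Prime := ⟨hr⟩
    obtain ⟨⟨y, hy⟩, hy2⟩ := exists_prime_orderOf_dvd_card' r hrd
    rw [orderOf_mk] at hy2
    have hcomm : Commute x y := (mem_centralizer_singleton_iff.1 hy).symm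
    have h4 := hcomm.orderOf_mul_eq_mul_orderOf_of_coprime (by
      rw [hx, hy2]; exact (Nat.coprime_primes hq.out hr).2 (Ne.symm hne))
    have h5 := h1 (x * y) (by rw [h4, hx]; exact dvd_mul_right _ _)
    rw [h4, hx, hy2] at h5
    have h6 := hr.one_lt
    have h7 := hq.out.pos
    nlinarith
  obtain ⟨n, hn⟩ := IsPGroup.iff_card.1 h3
  have h4 : Nat.card (centralizer ({x} : Set Spor.J1)) ∣ Nat.card Spor.J1 := card_subgroup_dvd_card _
  have h5 : q ∣ Nat.card (centralizer ({x} : Set Spor.J1)) := by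
    rw [← hx, ← orderOf_mk x (mem_centralizer_singleton_iff.2 rfl)]
    exact orderOf_dvd_natCard _
  have h6 : (Nat.card (centralizer ({x} : Set Spor.J1))).factorization q ≤ 1 := by
    rw [← hfac]
    exact (Nat.factorization_le_iff_dvd Nat.card_pos.ne' Nat.card_pos.ne').2 h4 q
  rw [hn, hq.out.factorization_pow, Finsupp.single_eq_same] at h6
  rw [hn] at h5 ⊢
  interval_cases n
  · rw [pow_zero, Nat.dvd_one] at h5
    exact absurd h5 hq.out.one_lt.ne'
  · rw [pow_one]

theorem real {q : ℕ} [hq : Fact q.Prime] (hq' : q = 7 ∨ q = 11) {x : Spor.J1} (hx : orderOf x = q) :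
    IsConj x x⁻¹ := by
  have hxq : x ^ q = 1 := by rw [← hx]; exact pow_orderOf_eq_one x
  refine isConj_inv_of_even hxq ?_
  rcases hq' with rfl | rfl
  · have h1 := fus_card_eq (p := 7) (e := 6) (c := 1) (fac (by norm_num) (by norm_num)) hx
      (by rw [cent (Or.inl rfl) hx]) (by rw [card_j1]; decide)
    rw [h1]; decide
  · have h1 := fus_card_eq (p := 11) (e := 10) (c := 1) (fac (by norm_num) (by norm_num)) hx
      (by rw [cent (Or.inr (Or.inl rfl)) hx]) (by rw [card_j1]; decide)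
    rw [h1]; decide

theorem ne_one_of {x : Spor.J1} {q : ℕ} (hx : orderOf x = q) (hq : q ≠ 1) : x ≠ 1 := by
  rintro rfl
  rw [orderOf_one] at hx
  exact hq hx.symm

theorem prime_cases {r : ℕ} (hr : r.Prime) (h : r ∣ 175560) :
    r = 2 ∨ r = 3 ∨ r = 5 ∨ r = 7 ∨ r = 11 ∨ r = 19 := by
  rw [show 175560 = 2 ^ 3 * 3 * 5 * 7 * 11 * 19 by norm_num] at h
  rcases (Nat.Prime.dvd_mul hr).1 h with h | h
  · rcases (Nat.Prime.dvd_mul hr).1 h with h | h
    · rcases (Nat.Prime.dvd_mul hr).1 h with h | h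
      · rcases (Nat.Prime.dvd_mul hr).1 h with h | h
        · rcases (Nat.Prime.dvd_mul hr).1 h with h | h
          · exact Or.inl ((Nat.prime_dvd_prime_iff_eq hr Nat.prime_two).1 (hr.dvd_of_dvd_pow h))
          · exact Or.inr (Or.inl ((Nat.prime_dvd_prime_iff_eq hr Nat.prime_three).1 h))
        · exact Or.inr (Or.inr (Or.inl ((Nat.prime_dvd_prime_iff_eq hr (by norm_num)).1 h)))
      · exact Or.inr (Or.inr (Or.inr (Or.inl ((Nat.prime_dvd_prime_iff_eq hr (by norm_num)).1 h))))
    · exact Or.inr (Or.inr (Or.inr (Or.inr (Or.inl ((Nat.prime_dvd_prime_iff_eq hr (by norm_num)).1 h)))))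
  · exact Or.inr (Or.inr (Or.inr (Or.inr (Or.inr ((Nat.prime_dvd_prime_iff_eq hr (by norm_num)).1 h)))))

theorem exists_ord {n : ℕ} (h : n ∈ ({1, 2, 3, 5, 6, 7, 10, 11, 15, 19} : Finset ℕ)) :
    ∃ g : Spor.J1, orderOf g = n := (Cfsg.Agent.H413.JOneSpec.exists_orderOf_iff n).2 h

theorem five_fus {y : Spor.J1} (hy : orderOf y = 5) : ∀ [Fact (Nat.Prime 5)], (fus (p := 5) y).card = 2 := by
  intro _
  exact fus_card_eq (p := 5) (e := 2) (c := 6) (fac (by norm_num) (by norm_num)) hy
    (by rw [card_cent_five hy]) (by rw [card_j1]; decide)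

theorem im_five : IM 5 Spor.J1 := by
  have h3 : Fact (Nat.Prime 3) := ⟨by norm_num⟩
  have h5 : Fact (Nat.Prime 5) := ⟨by norm_num⟩
  obtain ⟨y, hy⟩ := exists_ord (n := 5) (by decide)
  have hm : numCls 5 (zpowers y) ≤ 3 := numCls_dih (p := 5) (q := 3) (by norm_num) (by norm_num) (Or.inl rfl) hy
    (by rw [card_cent_five hy]) no_thirty
  refine IM_T5_orders (fac (by norm_num) (by norm_num)) hy (five_fus hy).le hm
    {1, 2, 3, 6, 7, 11, 19} (fun n hn => ⟨?_, ?_⟩) (by decide)
  · revert hn; generalize n = m; intro hm; fin_cases hm <;> norm_num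
  · exact exists_ord (by fin_cases hn <;> decide)

theorem im_three : IM 3 Spor.J1 := by
  have h3 : Fact (Nat.Prime 3) := ⟨by norm_num⟩
  have h5 : Fact (Nat.Prime 5) := ⟨by norm_num⟩
  obtain ⟨x, hx⟩ := exists_ord (n := 3) (by decide)
  have hm : numCls 3 (zpowers x) ≤ 4 := numCls_dih (p := 3) (q := 5) (by norm_num) (by norm_num) (Or.inr rfl) hx
    (by rw [card_cent_three hx]) no_thirty
  have he : (fus (p := 3) x).card ≤ 2 := Nat.le_of_dvd (by norm_num)
    (fus_card_dvd (p := 3) (by rw [← hx]; exact pow_orderOf_eq_one x))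
  have key : ∀ n ∈ ({1, 2, 5, 7, 10, 11, 19} : Finset ℕ), ¬ 3 ∣ n ∧ n ∈ ({1, 2, 3, 5, 6, 7, 10, 11, 15, 19} : Finset ℕ) := by
    decide
  refine IM_T5_lists (fac (by norm_num) (by norm_num)) hx he hm {1, 2, 5, 7, 10, 11, 19}
    (fun n => if n = 5 then 2 else if n = 10 then 2 else 1) (fun n hn => ⟨(key n hn).1, ?_⟩) (by decide)
  obtain ⟨g, hg⟩ := exists_ord (key n hn).2
  by_cases hn5 : n = 5
  · subst hn5
    have hy2 : orderOf (g ^ 2) = 5 := by rw [Nat.Coprime.orderOf_pow (by rw [hg]; decide), hg]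
    refine ⟨[g, g ^ 2], rfl, by simp [hg, hy2], ?_⟩
    simp only [List.pairwise_cons, List.mem_singleton, forall_eq, List.not_mem_nil, false_imp_iff,
      implies_true, List.Pairwise.nil, and_true]
    exact not_isConj_pow (p := 5) (by rw [← hg]; exact pow_orderOf_eq_one g) (k := 2)
      (by norm_num) (by rw [five_fus hg]; norm_num)
  by_cases hn10 : n = 10
  · subst hn10
    have hu3 : orderOf (g ^ 3) = 10 := by rw [Nat.Coprime.orderOf_pow (by rw [hg]; decide), hg]
    refine ⟨[g, g ^ 3], rfl, by simp [hg, hu3], ?_⟩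
    simp only [List.pairwise_cons, List.mem_singleton, forall_eq, List.not_mem_nil, false_imp_iff,
      implies_true, List.Pairwise.nil, and_true]
    intro h
    have h1 : orderOf (g ^ 2) = 5 := by rw [orderOf_pow, hg]; decide
    obtain ⟨k, hk⟩ := isConj_iff.1 h
    refine not_isConj_pow (p := 5) (x := g ^ 2) (by rw [← h1]; exact pow_orderOf_eq_one _) (k := 3)
      (by norm_num) (by rw [five_fus h1]; norm_num) (isConj_iff.2 ⟨k, ?_⟩)
    rw [← conj_pow, hk, ← pow_mul, ← pow_mul, mul_comm]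
  · exact ⟨[g], by rw [if_neg hn5, if_neg hn10]; rfl, by simpa using hg, by simp⟩

theorem model {p : ℕ} [hp : Fact p.Prime] (h : p ∣ Nat.card Spor.J1) : IM p Spor.J1 := by
  rw [card_j1] at h
  have h7 : Fact (Nat.Prime 7) := ⟨by norm_num⟩
  have h11 : Fact (Nat.Prime 11) := ⟨by norm_num⟩
  obtain ⟨x, hx⟩ := exists_ord (n := 7) (by decide)
  obtain ⟨y, hy⟩ := exists_ord (n := 11) (by decide)
  have hCx := cent (Or.inl rfl) hx
  have hCy := cent (Or.inr (Or.inl rfl)) hy
  rcases prime_cases hp.out h with rfl | rfl | rfl | rfl | rfl | rfl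
  · exact IM_two_of_real (ne_one_of hx (by norm_num)) (real (Or.inl rfl) hx) (by rw [hCx]; decide)
  · exact im_three
  · exact im_five
  · refine IM_of_real (g := y) (k := 1) (ne_one_of hy (by norm_num)) (real (Or.inr rfl) hy) (by rw [hCy]; decide)
      (by rw [hCy]; norm_num) (by rw [card_j1]; norm_num) fun t ht => ?_
    rw [card_cent_two ht]; norm_num
  · refine IM_of_real (g := x) (k := 1) (ne_one_of hx (by norm_num)) (real (Or.inl rfl) hx) (by rw [hCx]; decide)
      (by rw [hCx]; norm_num) (by rw [card_j1]; norm_num) fun t ht => ?_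
    rw [card_cent_two ht]; norm_num
  · refine IM_of_real (g := x) (k := 1) (ne_one_of hx (by norm_num)) (real (Or.inl rfl) hx) (by rw [hCx]; decide)
      (by rw [hCx]; norm_num) (by rw [card_j1]; norm_num) fun t ht => ?_
    rw [card_cent_two ht]; norm_num

/-- **Itô-Michler for `J₁`** -/
theorem im_j1 {S : Type u} [Group S] (h : Spor.IsoJ1 S) {p : ℕ} [Fact p.Prime]
    (hp : p ∣ Nat.card S) : IM p S := by
  obtain ⟨e⟩ := h
  exact (model (by rw [← Nat.card_congr e.toEquiv]; exact hp)).of_equiv e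

end Cfsg.Agent.H724.IMJOne
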