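import Cfsg.Agent.H724.UThreeE
import Cfsg.Agent.H724.UThreeG
import Cfsg.Agent.S0282

/-!
# The row `PSU_3(q)` of S3829 (task 308)

`endAt_psu3` : every radical automorphism of prime order `p ≥ 5` of a simple group `PSU_3(q)` is inner and the Sylow
`p`-subgroups are cyclic (only the condition `RC` is used).
-/

set_option autoImplicit false
set_option linter.unusedSectionVars false

namespace Cfsg.Agent.H724.UThree

open Subgroup Cfsg Cfsg.Agent.H459.Rad Cfsg.Agent.H459.Iface Matrix
open Cfsg.Agent.ClassicalGeometry.PSUAutCount (gm toAut gm_mul gm_one gm_inj)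
open Cfsg.Agent.ClassicalGeometry.UnitAutBasic (pr pr_surjective)
open Cfsg.Agent.Schreier.PSU (f₁)

variable {F : Type*} [Field F] [Fintype F] {q : ℕ}

theorem semi_eq_one (hF : Fintype.card F = q ^ 2) (hq : 4 ≤ q) {p : ℕ} [hp : Fact p.Prime]
    (hpq : ¬ p ∣ q ^ 2 * (q ^ 2 - q + 1)) {A : GU 3 F q} (hA : A ^ p = 1) (hR : RC (f₁ A)) : f₁ A = 1 := by
  obtain ⟨B, hB⟩ := exists_vec hF hpq hA
  have h4 := eq_one_of_fix hF hq hB (by
    rw [map_mul, map_mul, map_inv]
    have := RC_conj (f₁ B)⁻¹ hR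
    rwa [inv_inv] at this)
  rw [map_mul, map_mul, map_inv] at h4
  have h5 : f₁ A = f₁ B * ((f₁ B)⁻¹ * f₁ A * f₁ B) * (f₁ B)⁻¹ := by group
  rw [h5, h4, mul_one, mul_inv_cancel]

/-- the Sylow `p`-subgroups of `PSU_3(q)`, `p ∣ q² - q + 1` -/
theorem cyc_sylow (hF : Fintype.card F = q ^ 2) {p : ℕ} [hp : Fact p.Prime] (hp5 : 5 ≤ p)
    (hd : p ∣ q ^ 2 - q + 1) (P : Sylow p (PSU 3 F q)) : IsCyclic (P : Subgroup (PSU 3 F q)) := by
  have hq2 : q ≤ q ^ 2 := Nat.le_self_pow (by norm_num) q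
  have h0 : (q : ZMod p) ^ 2 - q + 1 = 0 := by
    have := (ZMod.natCast_eq_zero_iff _ p).2 hd
    push_cast [Nat.cast_sub hq2] at this
    exact this
  have h1 : (q : ZMod p) ^ 3 = -1 := by linear_combination ((q : ZMod p) + 1) * h0
  have h3 : (q : ZMod p) ^ 2 ≠ 1 := by
    intro h
    have h4 : (q : ZMod p) = 2 := by linear_combination h - h0
    rw [h4] at h
    have h5 : ((3 : ℕ) : ZMod p) = 0 := by push_cast; linear_combination h
    have h6 := (ZMod.natCast_eq_zero_iff _ p).1 h5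
    have := Nat.le_of_dvd (by norm_num) h6
    omega
  have hord : orderOf ((Fintype.card F : ℕ) : ZMod p) = 3 := by
    rw [hF]
    push_cast
    exact ord_three h1 h3
  obtain ⟨Q⟩ : Nonempty (Sylow p (SU 3 F q)) := inferInstance
  have hQ : IsCyclic (Q : Subgroup (SU 3 F q)) := by
    have h5 : IsPGroup p ((Q : Subgroup (SU 3 F q)).map (SU 3 F q).subtype) := Q.isPGroup'.map _
    have h6 := isCyclic_of_isPGroup hord _ h5
    exact isCyclic_of_surjective
      ((Q : Subgroup (SU 3 F q)).equivMapOfInjective _ (Subgroup.subtype_injective _)).symm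
      (MulEquiv.surjective _)
  let P' : Sylow p (PSU 3 F q) := Q.mapSurjective (pr_surjective (n := 3) (F := F) (q := q))
  have hP' : IsCyclic (P' : Subgroup (PSU 3 F q)) := by
    have h7 : (P' : Subgroup (PSU 3 F q)) = (Q : Subgroup (SU 3 F q)).map (pr 3 F q) := Sylow.coe_mapSurjective _ _
    rw [h7]
    exact isCyclic_of_surjective ((pr 3 F q).subgroupMap (Q : Subgroup (SU 3 F q)))
      ((pr 3 F q).subgroupMap_surjective _)
  exact isCyclic_of_surjective (P'.equiv P) (P'.equiv P).surjective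

theorem endAt_psu (hF : Fintype.card F = q ^ 2) (hq : q ≠ 2) {p : ℕ} [hp : Fact p.Prime] (hp5 : 5 ≤ p) :
    EndAt p (PSU 3 F q) := by
  intro x hx hR _
  have hq2 := LieClassical.GUOrder.two_le hF
  have hxp : x ^ p = 1 := by rw [← hx]; exact pow_orderOf_eq_one x
  have hx1 : x ≠ 1 := by
    rintro rfl
    rw [orderOf_one] at hx
    omega
  obtain ⟨A, ρ, rfl⟩ := ClassicalGeometry.PSUAutMain.exists_toAut hF le_rfl (fun h => hq h.2) x
  by_cases hρ : ρ = 1
  swap
  · exact (field_false hF hp.out (by omega) hxp hρ hR).elim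
  subst hρ
  obtain ⟨g, hg, hgx⟩ := exists_lin hF hp.out (by omega) hxp
  rw [hgx] at hx1 hR
  by_cases hpq : p ∣ q
  · -- the characteristic
    exfalso
    obtain ⟨r, k, hr, hrc, hk, hk0⟩ := LieClassical.HermBasic.exists_prime_pow hF
    have h1 : p = r := by
      rw [hk] at hpq
      exact (Nat.prime_dvd_prime_iff_eq hp.out hr).1 (hp.out.dvd_of_dvd_pow hpq)
    subst h1
    exact hx1 (unip_eq_one hF hp5 hg hR)
  by_cases hd : p ∣ q ^ 2 - q + 1
  · refine ⟨⟨pr 3 F q g, ?_⟩, cyc_sylow hF hp5 hd⟩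
    rw [hgx, f₁_toGU]
  · exfalso
    have hnd : ¬ p ∣ q ^ 2 * (q ^ 2 - q + 1) := by
      intro h
      rcases (Nat.Prime.dvd_mul hp.out).1 h with h | h
      · exact hpq (hp.out.dvd_of_dvd_pow h)
      · exact hd h
    have hg1 : g ≠ 1 := by
      rintro rfl
      apply hx1
      have : toGU (1 : SU 3 F q) = 1 := gm_inj rfl
      rw [this, map_one]
    have hog : orderOf g = p := orderOf_eq_prime hg hg1
    have hdvd : p ∣ Nat.card (SU 3 F q) := by rw [← hog]; exact orderOf_dvd_natCard g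
    have hq4 : 4 ≤ q := by
      have h1 : p ∣ Nat.card (GU 3 F q) := by
        rw [LieClassical.GUOrder.card_GU_eq hF (by norm_num)]
        exact Dvd.dvd.mul_left hdvd _
      rw [card_GU_three hF] at h1
      have h3 : q ^ 3 + 1 = (q + 1) * (q ^ 2 - q + 1) := by
        have h4 : q ≤ q ^ 2 := Nat.le_self_pow (by norm_num) q
        zify [h4]
        ring
      have h5 : q ^ 2 - 1 = (q + 1) * (q - 1) := by
        have := Nat.sq_sub_sq q 1
        simpa using this
      rw [h3, h5] at h1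
      by_contra hlt
      have hlt' : q = 3 := by omega
      subst hlt'
      rcases (Nat.Prime.dvd_mul hp.out).1 h1 with h | h
      · exact hpq (hp.out.dvd_of_dvd_pow h)
      · have h8 : p ∣ 2 ^ 7 * 7 := by
          have : (3 + 1) * ((3 + 1) * (3 - 1)) * ((3 + 1) * (3 ^ 2 - 3 + 1)) = 2 ^ 7 * 7 := by norm_num
          rwa [this] at h
        rcases (Nat.Prime.dvd_mul hp.out).1 h8 with h | h
        · have := Nat.le_of_dvd (by norm_num) (hp.out.dvd_of_dvd_pow h)
          omega
        · exact hd (by norm_num; exact h)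
    exact hx1 (semi_eq_one hF hq4 hnd (by rw [← toGU_pow, hg]; exact gm_inj rfl) hR)

/-- **The row `PSU_3(q)`.** -/
theorem endAt_psu3 {K : Type*} [Group K] [Finite K] [IsSimpleGroup K] {F : Type} [Field F] [Fintype F] {q p : ℕ}
    [Fact p.Prime] (hF : Fintype.card F = q ^ 2) (e : Nonempty (K ≃* Cfsg.PSU 3 F q)) (hp : 5 ≤ p) :
    Cfsg.Agent.H459.Iface.EndAt p K := by
  obtain ⟨e⟩ := e
  have hq : q ≠ 2 := by
    rintro rfl
    obtain ⟨h1, h2⟩ := Cfsg.Agent.S0282.result (F := F) (by rw [hF]; norm_num)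
    have h3 : Nat.card K = 72 := by rw [Nat.card_congr e.toEquiv, h1]
    have h4 : Group.IsSolvable K := Group.isSolvable_of_surjective (f := e.symm.toMonoidHom) e.symm.surjective
    have h5 : (Nat.card K).Prime := by
      have h6 : ∀ a b : K, a * b = b * a := IsSimpleGroup.comm_iff_isSolvable.2 h4
      let _ : CommGroup K := { (inferInstance : Group K) with mul_comm := h6 }
      exact IsSimpleGroup.prime_card
    rw [h3] at h5
    norm_num at h5
  exact (endAt_psu hF hq hp).congr e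

end Cfsg.Agent.H724.UThree
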