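import Cfsg.Agent.H724.IMTool
import Cfsg.Agent.CpAutJThree.Row
import Cfsg.Agent.H771.KJ3
import Cfsg.Agent.H898.J3Cent

/-!
# Itô-Michler for `J₃` (helper724)
-/

set_option autoImplicit false

namespace Cfsg.Agent.H724.IMJThree

open Subgroup Cfsg Cfsg.Agent.H33 Cfsg.Agent.H665.NoPQ Cfsg.Agent.H713 Cfsg.Agent.H713.Count
open Cfsg.Agent.H724.IMTool Cfsg.Agent.H593.IMCyc
open Cfsg.Agent.H92.KTools Cfsg.Agent.H771.KTools Cfsg.Agent.H771.KJ3

universe u

/-- the centralizer of `b` in `C(a)` and of `a` in `C(b)` -/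
theorem card_comm {G : Type*} [Group G] {a b : G} (hb : b ∈ centralizer ({a} : Set G))
    (ha : a ∈ centralizer ({b} : Set G)) :
    Nat.card (centralizer ({(⟨b, hb⟩ : centralizer ({a} : Set G))} : Set (centralizer ({a} : Set G)))) =
      Nat.card (centralizer ({(⟨a, ha⟩ : centralizer ({b} : Set G))} : Set (centralizer ({b} : Set G)))) := by
  refine Nat.card_congr ⟨fun w => ⟨⟨((w : centralizer ({a} : Set G)) : G), ?_⟩, ?_⟩,
    fun w => ⟨⟨((w : centralizer ({b} : Set G)) : G), ?_⟩, ?_⟩, ?_, ?_⟩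
  · have h := mem_centralizer_singleton_iff.1 w.2
    rw [mem_centralizer_singleton_iff]
    exact congrArg Subtype.val h
  · rw [mem_centralizer_singleton_iff]
    exact Subtype.ext (mem_centralizer_singleton_iff.1 w.1.2)
  · have h := mem_centralizer_singleton_iff.1 w.2
    rw [mem_centralizer_singleton_iff]
    exact congrArg Subtype.val h
  · rw [mem_centralizer_singleton_iff]
    exact Subtype.ext (mem_centralizer_singleton_iff.1 w.1.2)
  · intro w; rfl
  · intro w; rfl

/-- the centralizer of an element of order `r` bounds the Sylow `r`-subgroups -/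
theorem not_sq_dvd {H : Type*} [Group H] [Finite H] {r : ℕ} [hr : Fact r.Prime] {c : H} (hc : orderOf c = r)
    (h : ¬ r ^ 2 ∣ Nat.card (centralizer ({c} : Set H))) : ¬ r ^ 2 ∣ Nat.card H := by
  intro hd
  obtain ⟨K, hK, hle⟩ := Sylow.exists_subgroup_card_pow_prime_le r hd (zpowers c)
    (by rw [Nat.card_zpowers, hc, pow_one] : Nat.card (zpowers c) = r ^ 1) (by norm_num)
  apply h
  have hcomm : ∀ a b : K, a * b = b * a := (IsPGroup.isMulCommutative_of_card_eq_prime_sq hK).is_comm.comm
  have hcK : c ∈ K := hle (mem_zpowers c)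
  have h1 : K ≤ centralizer ({c} : Set H) := by
    intro a ha
    rw [mem_centralizer_singleton_iff]
    exact congrArg Subtype.val (hcomm ⟨a, ha⟩ ⟨c, hcK⟩)
  rw [← hK]
  exact card_dvd_of_le h1

/-- centralizers of elements of order 5 in `A₆` -/
theorem alt_six {g : alternatingGroup (Fin 6)} (hg : orderOf g = 5) :
    Nat.card (centralizer ({g} : Set (alternatingGroup (Fin 6)))) ∣ 5 := by
  have h1 : orderOf (g : Equiv.Perm (Fin 6)) = 5 := by rw [Subgroup.orderOf_coe]; exact hg
  have h2 : (g : Equiv.Perm (Fin 6)).cycleType = {5} := by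
    obtain ⟨n, hn⟩ := Equiv.Perm.cycleType_prime_order (σ := (g : Equiv.Perm (Fin 6))) (by rw [h1]; norm_num)
    have h3 := Equiv.Perm.sum_cycleType (g : Equiv.Perm (Fin 6))
    have h4 := Finset.card_le_univ (g : Equiv.Perm (Fin 6)).support
    rw [← h3, hn, Multiset.sum_replicate, h1, Fintype.card_fin, smul_eq_mul] at h4
    have h5 : n = 0 := by omega
    rw [hn, h5, h1]
    rfl
  have h3 : Nat.card (centralizer ({(g : Equiv.Perm (Fin 6))} : Set (Equiv.Perm (Fin 6)))) = 5 := by
    rw [Equiv.Perm.nat_card_centralizer, h2]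
    decide
  rw [← h3]
  have h4 : (centralizer ({g} : Set (alternatingGroup (Fin 6)))).map (alternatingGroup (Fin 6)).subtype ≤
      centralizer ({(g : Equiv.Perm (Fin 6))} : Set (Equiv.Perm (Fin 6))) := by
    rintro _ ⟨a, ha, rfl⟩
    rw [mem_centralizer_singleton_iff]
    exact congrArg Subtype.val (mem_centralizer_singleton_iff.1 ha)
  rw [← card_map_of_injective (alternatingGroup (Fin 6)).subtype_injective (K := centralizer ({g} : Set (alternatingGroup (Fin 6))))]
  exact card_dvd_of_le h4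

section

variable {K : Type u} [Group K]

theorem card_j3 (h : Spor.IsoJ3 K) : Nat.card K = 50232960 := (H898.J3Cent.base h).2.1

theorem card_two (h : Spor.IsoJ3 K) {t : K} (ht : orderOf t = 2) :
    Nat.card (centralizer ({t} : Set K)) = 1920 := ((H898.J3Cent.base h).2.2 t ht).2.1

theorem exists_ord (h : Spor.IsoJ3 K) {n : ℕ} (hn : n ∈ ({1, 2, 3, 4, 5, 6, 8, 10, 12, 17, 19} : Finset ℕ)) :
    ∃ g : K, orderOf g = n := by
  obtain ⟨-, z, Q, v, ρ, m, u, D⟩ := KFacts.J3.exists_facts h
  have hcard := D.card_K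
  have hfin : Finite K := Nat.finite_of_card_ne_zero (by rw [hcard]; norm_num)
  have h8 := eight h
  have hzz : z * z = 1 := congrArg Subtype.val D.model.z_sq
  have hz1 : z ≠ 1 := fun h => D.model.z_ne (Subtype.ext h)
  have h12 : HasOrd K 12 := (twelve D.model (hasOrd_prime (by norm_num) (by rw [D.card_C]; norm_num))).of_subgroup
  have hd : ∀ p, p.Prime → p ∣ 50232960 → HasOrd K p := fun p hp hd => hasOrd_prime hp (by rwa [hcard])
  simp only [Finset.mem_insert, Finset.mem_singleton] at hn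
  rcases hn with rfl | rfl | rfl | rfl | rfl | rfl | rfl | rfl | rfl | rfl | rfl
  · exact hasOrd_one K
  · exact hd 2 (by norm_num) (by norm_num)
  · exact hd 3 (by norm_num) (by norm_num)
  · exact h8.of_dvd (by norm_num) (by norm_num)
  · exact hd 5 (by norm_num) (by norm_num)
  · exact h12.of_dvd (by norm_num) (by norm_num)
  · exact h8
  · exact two_mul_prime hzz hz1 (p := 5) (by norm_num) (by norm_num) (by rw [D.card_C]; norm_num)
  · exact h12
  · exact hd 17 (by norm_num) (by norm_num)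
  · exact hd 19 (by norm_num) (by norm_num)

theorem fac (h : Spor.IsoJ3 K) {q : ℕ} [Fact q.Prime] (h1 : q ∣ 50232960) (h2 : ¬ q * q ∣ 50232960) :
    (Nat.card K).factorization q = 1 := by
  rw [card_j3 h]
  refine le_antisymm ?_ ((Nat.Prime.dvd_iff_one_le_factorization (Fact.out) (by norm_num)).1 h1)
  by_contra h
  push Not at h
  exact h2 (by
    have := (Nat.pow_dvd_pow q h).trans (Nat.ordProj_dvd 50232960 q)
    rwa [show (1 : ℕ).succ = 2 from rfl, pow_two] at this)

/-- commuting elements of orders 2 and 5 -/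
theorem card_two_five [Finite K] (h : Spor.IsoJ3 K) {t y : K} (ht : orderOf t = 2) (hy : orderOf y = 5)
    (hyt : y ∈ centralizer ({t} : Set K)) :
    Nat.card (centralizer ({(⟨y, hyt⟩ : centralizer ({t} : Set K))} : Set (centralizer ({t} : Set K)))) = 10 := by
  obtain ⟨-, hc, Q, v, ρ, M⟩ := (H898.J3Cent.base h).2.2 t ht
  have h1 := Cfsg.Agent.J2Type.COdd.card_cent_five M hc (c := ⟨y, hyt⟩) (by rw [orderOf_mk]; exact hy)
  rw [← h1]
  exact Nat.card_congr (Equiv.subtypeEquivRight fun w => mem_centralizer_singleton_iff)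

theorem no_thirty [Finite K] (h : Spor.IsoJ3 K) (w : K) : orderOf w ≠ 30 := by
  intro hw
  have ht : orderOf (w ^ 15) = 2 := by rw [orderOf_pow, hw]; decide
  have hy : orderOf (w ^ 6) = 5 := by rw [orderOf_pow, hw]; decide
  have hyt : w ^ 6 ∈ centralizer ({w ^ 15} : Set K) := by
    rw [mem_centralizer_singleton_iff, ← pow_add, ← pow_add]
  have h1 := card_two_five h ht hy hyt
  have hwt : w ∈ centralizer ({w ^ 15} : Set K) := by
    rw [mem_centralizer_singleton_iff, ← pow_succ, ← pow_succ']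
  have h2 : (⟨w, hwt⟩ : centralizer ({w ^ 15} : Set K)) ∈
      centralizer ({(⟨w ^ 6, hyt⟩ : centralizer ({w ^ 15} : Set K))} : Set (centralizer ({w ^ 15} : Set K))) := by
    rw [mem_centralizer_singleton_iff]
    apply Subtype.ext
    show w * w ^ 6 = w ^ 6 * w
    rw [← pow_succ, ← pow_succ']
  have h3 := orderOf_dvd_natCard (⟨_, h2⟩ : ↥(centralizer ({(⟨w ^ 6, hyt⟩ : centralizer ({w ^ 15} : Set K))} :
    Set (centralizer ({w ^ 15} : Set K)))))
  rw [h1, orderOf_mk, orderOf_mk, hw] at h3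
  norm_num at h3

/-- the centralizer of `c`, of order 1080, modulo `c` is `A₆` -/
theorem exists_iso [Finite K] (h : Spor.IsoJ3 K) {x : K} (hx : orderOf x = 3)
    (hC : Nat.card ↥(centralizer ({x} : Set K)) = 1080) :
    ∃ π : centralizer ({x} : Set K) →* alternatingGroup (Fin 6), Function.Surjective π ∧ Nat.card π.ker = 3 := by
  obtain ⟨hcard, hM, hone, -⟩ := CpAutJThree.base h
  have hp2 : Fact (Nat.Prime 2) := ⟨Nat.prime_two⟩
  have memC : ∀ a : K, a ∈ centralizer ({x} : Set K) ↔ a * x = x * a := fun a => mem_centralizer_singleton_iff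
  let c : centralizer ({x} : Set K) := ⟨x, (memC x).2 rfl⟩
  have hc3 : orderOf c = 3 := by rw [← hx]; exact orderOf_mk _ _
  have hcc : ∀ a : centralizer ({x} : Set K), a * c = c * a := fun a => Subtype.ext ((memC a).1 a.2)
  have hZn : (zpowers c).Normal := by
    constructor
    rintro n ⟨k, rfl⟩ g
    refine ⟨k, ?_⟩
    have h1 : Commute g c := hcc g
    have := h1.zpow_right k
    show c ^ k = g * c ^ k * g⁻¹
    rw [this.eq]; group
  have hHD8 := J3Type.Extra.hd8_quotient c hc3 hcc (CpAutJThree.hD_of_model hM hx)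
  have hq : Nat.card (↥(centralizer ({x} : Set K)) ⧸ zpowers c) = 360 := by
    have := card_eq_card_quotient_mul_card_subgroup (zpowers c)
    rw [hC, Nat.card_zpowers, hc3] at this
    omega
  obtain ⟨s', hs'⟩ := exists_prime_orderOf_dvd_card' (G := ↥(centralizer ({x} : Set K)) ⧸ zpowers c) 2
    (by rw [hq]; norm_num)
  have hsim := J3Type.Extra.isSimple hHD8 hs'
  obtain ⟨e⟩ := Cfsg.Agent.S0497.result hq
  refine ⟨e.toMonoidHom.comp (QuotientGroup.mk' (zpowers c)), ?_, ?_⟩
  · exact e.surjective.comp (QuotientGroup.mk'_surjective _)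
  · have h1 : (e.toMonoidHom.comp (QuotientGroup.mk' (zpowers c))).ker = zpowers c := by
      ext a
      rw [MonoidHom.mem_ker, MonoidHom.comp_apply]
      show e _ = 1 ↔ _
      rw [map_eq_one_iff e e.injective]
      exact QuotientGroup.eq_one_iff a
    rw [h1, Nat.card_zpowers, hc3]

/-- commuting elements of orders 3 and 5 -/
theorem card_three_five [Finite K] (h : Spor.IsoJ3 K) {x y : K} (hx : orderOf x = 3)
    (hC : Nat.card ↥(centralizer ({x} : Set K)) = 1080) (hy : orderOf y = 5)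
    (hyx : y ∈ centralizer ({x} : Set K)) :
    Nat.card (centralizer ({(⟨y, hyx⟩ : centralizer ({x} : Set K))} : Set (centralizer ({x} : Set K)))) ∣ 15 := by
  obtain ⟨π, hπ, hker⟩ := exists_iso h hx hC
  have hπy : orderOf (π ⟨y, hyx⟩) = 5 := by
    have h1 : orderOf (π ⟨y, hyx⟩) ∣ 5 := by
      rw [← hy, ← orderOf_mk y hyx]; exact orderOf_map_dvd π _
    rcases (Nat.dvd_prime (by norm_num)).1 h1 with h2 | h2
    · exfalso
      have h3 : (⟨y, hyx⟩ : centralizer ({x} : Set K)) ∈ π.ker := MonoidHom.mem_ker.2 (orderOf_eq_one_iff.1 h2)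
      have h4 : orderOf (⟨y, hyx⟩ : centralizer ({x} : Set K)) ∣ Nat.card π.ker := by
        rw [← orderOf_mk _ h3]; exact orderOf_dvd_natCard _
      rw [hker, orderOf_mk, hy] at h4
      norm_num at h4
    · exact h2
  set D := centralizer ({(⟨y, hyx⟩ : centralizer ({x} : Set K))} : Set (centralizer ({x} : Set K))) with hD
  have h1 : D.map π ≤ centralizer ({π ⟨y, hyx⟩} : Set (alternatingGroup (Fin 6))) := by
    rintro _ ⟨a, ha, rfl⟩
    rw [mem_centralizer_singleton_iff, ← map_mul, ← map_mul]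
    exact congrArg π (mem_centralizer_singleton_iff.1 ha)
  have h2 : Nat.card (D.map π) ∣ 5 := (card_dvd_of_le h1).trans (alt_six hπy)
  have h3 : Nat.card (π.comp D.subtype).ker ∣ 3 := by
    rw [← hker]
    have h4 : (π.comp D.subtype).ker.map D.subtype ≤ π.ker := by
      rintro _ ⟨a, ha, rfl⟩
      exact ha
    rw [← card_map_of_injective D.subtype_injective (K := (π.comp D.subtype).ker)]
    exact card_dvd_of_le h4
  have h4 := card_eq_card_quotient_mul_card_subgroup (π.comp D.subtype).ker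
  have h5 : Nat.card (D ⧸ (π.comp D.subtype).ker) = Nat.card (D.map π) := by
    rw [Nat.card_congr (QuotientGroup.quotientKerEquivRange (π.comp D.subtype)).toEquiv, MonoidHom.range_comp,
      range_subtype]
  rw [h5] at h4
  rw [h4]
  exact Nat.mul_dvd_mul h2 h3

/-- **an element of order 5 has centralizer of order 30** -/
theorem exists_five (h : Spor.IsoJ3 K) : ∃ y : K, orderOf y = 5 ∧ Nat.card (centralizer ({y} : Set K)) = 30 := by
  have hcK := card_j3 h
  have hfin : Finite K := Nat.finite_of_card_ne_zero (by rw [hcK]; norm_num)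
  have h2 : Fact (Nat.Prime 2) := ⟨Nat.prime_two⟩
  have h3 : Fact (Nat.Prime 3) := ⟨Nat.prime_three⟩
  have h5 : Fact (Nat.Prime 5) := ⟨by norm_num⟩
  obtain ⟨c, hc, -, hcC⟩ := CpAutJThree.exc h
  obtain ⟨⟨y, hyc⟩, hy⟩ := exists_prime_orderOf_dvd_card' (G := centralizer ({c} : Set K)) 5 (by rw [hcC]; norm_num)
  rw [orderOf_mk] at hy
  refine ⟨y, hy, ?_⟩
  have hyC : y ∈ centralizer ({y} : Set K) := mem_centralizer_singleton_iff.2 rfl
  have hcy : c ∈ centralizer ({y} : Set K) :=
    mem_centralizer_singleton_iff.2 (mem_centralizer_singleton_iff.1 hyc).symm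
  -- an involution commuting with `y`
  obtain ⟨t, ht, hty⟩ : ∃ t : K, orderOf t = 2 ∧ t ∈ centralizer ({y} : Set K) := by
    obtain ⟨t, ht⟩ := exists_ord h (n := 2) (by decide)
    obtain ⟨⟨w, hwt⟩, hw⟩ := exists_prime_orderOf_dvd_card' (G := centralizer ({t} : Set K)) 5
      (by rw [card_two h ht]; norm_num)
    rw [orderOf_mk] at hw
    obtain ⟨i, hi, hi'⟩ := mem_sing.1 (mk_mem_sing (fac h (by norm_num) (by norm_num)) hw hy)
    obtain ⟨g, hg⟩ := isConj_iff.1 (ConjClasses.mk_eq_mk_iff_isConj.1 hi')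
    refine ⟨g * t * g⁻¹, by rw [orderOf_conj]; exact ht, ?_⟩
    rw [mem_centralizer_singleton_iff, ← hg]
    have h6 : Commute w t := mem_centralizer_singleton_iff.1 hwt
    have h7 : w ^ i.val * t = t * w ^ i.val := (h6.pow_left _).eq
    calc g * t * g⁻¹ * (g * w ^ i.val * g⁻¹) = g * (t * w ^ i.val) * g⁻¹ := by group
      _ = g * (w ^ i.val * t) * g⁻¹ := by rw [h7]
      _ = g * w ^ i.val * g⁻¹ * (g * t * g⁻¹) := by group
  set n := Nat.card (centralizer ({y} : Set K)) with hn
  have hnd : n ∣ 50232960 := by rw [← hcK]; exact card_subgroup_dvd_card _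
  have d5 : 5 ∣ n := by rw [← hy, ← orderOf_mk y hyC]; exact orderOf_dvd_natCard _
  have d3 : 3 ∣ n := by rw [← hc, ← orderOf_mk c hcy]; exact orderOf_dvd_natCard _
  have d2 : 2 ∣ n := by rw [← ht, ← orderOf_mk t hty]; exact orderOf_dvd_natCard _
  have n4 : ¬ 2 ^ 2 ∣ n := by
    refine not_sq_dvd (c := (⟨t, hty⟩ : centralizer ({y} : Set K))) (by rw [orderOf_mk]; exact ht) ?_
    have hyt : y ∈ centralizer ({t} : Set K) :=
      mem_centralizer_singleton_iff.2 (mem_centralizer_singleton_iff.1 hty).symm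
    rw [card_comm hty hyt, card_two_five h ht hy hyt]
    norm_num
  have n9 : ¬ 3 ^ 2 ∣ n := by
    refine not_sq_dvd (c := (⟨c, hcy⟩ : centralizer ({y} : Set K))) (by rw [orderOf_mk]; exact hc) ?_
    rw [card_comm hcy hyc]
    intro h6
    have h7 := h6.trans (card_three_five h hc hcC hy hyc)
    norm_num at h7
  have n17 : ¬ 17 ∣ n := by
    intro hd
    have : Fact (Nat.Prime 17) := ⟨by norm_num⟩
    obtain ⟨⟨w, hwy⟩, hw⟩ := exists_prime_orderOf_dvd_card' (G := centralizer ({y} : Set K)) 17 hd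
    rw [orderOf_mk] at hw
    have h6 := (H898.J3Cent.seventeen h hw).1
    have h7 : y ∈ centralizer ({w} : Set K) :=
      mem_centralizer_singleton_iff.2 (mem_centralizer_singleton_iff.1 hwy).symm
    have h8 : orderOf y ∣ Nat.card (centralizer ({w} : Set K)) := by
      rw [← orderOf_mk y h7]; exact orderOf_dvd_natCard _
    rw [h6, hy] at h8
    norm_num at h8
  have n19 : ¬ 19 ∣ n := by
    intro hd
    have : Fact (Nat.Prime 19) := ⟨by norm_num⟩
    obtain ⟨⟨w, hwy⟩, hw⟩ := exists_prime_orderOf_dvd_card' (G := centralizer ({y} : Set K)) 19 hd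
    rw [orderOf_mk] at hw
    have h6 := H898.J3Cent.card_nineteen h hw
    have h7 : y ∈ centralizer ({w} : Set K) :=
      mem_centralizer_singleton_iff.2 (mem_centralizer_singleton_iff.1 hwy).symm
    have h8 : orderOf y ∣ Nat.card (centralizer ({w} : Set K)) := by
      rw [← orderOf_mk y h7]; exact orderOf_dvd_natCard _
    rw [h6, hy] at h8
    norm_num at h8
  have d30 : 30 ∣ n := by
    have h6 : 2 * 3 ∣ n := Nat.Coprime.mul_dvd_of_dvd_of_dvd (by norm_num) d2 d3
    exact Nat.Coprime.mul_dvd_of_dvd_of_dvd (m := 2 * 3) (n := 5) (by norm_num) h6 d5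
  obtain ⟨k, hk⟩ := d30
  have hk1 : k = 1 := by
    by_contra hk1
    obtain ⟨p, hp, hpk⟩ := Nat.exists_prime_and_dvd hk1
    have hpn : p ∣ n := by rw [hk]; exact hpk.mul_left _
    rcases H898.J3Cent.prime_dvd_card hp (hpn.trans hnd) with rfl | rfl | rfl | rfl | rfl
    · apply n4
      rw [hk, show 30 = 2 * 15 by norm_num, mul_assoc, pow_two]
      exact Nat.mul_dvd_mul_left 2 (hpk.mul_left _)
    · apply n9
      rw [hk, show 30 = 3 * 10 by norm_num, mul_assoc, pow_two]
      exact Nat.mul_dvd_mul_left 3 (hpk.mul_left _)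
    · have h6 : 5 * 5 ∣ n := by
        rw [hk, show 30 = 5 * 6 by norm_num, mul_assoc]
        exact Nat.mul_dvd_mul_left 5 (hpk.mul_left _)
      have h7 := h6.trans hnd
      norm_num at h7
    · exact n17 hpn
    · exact n19 hpn
  rw [hk, hk1]

theorem im_five (h : Spor.IsoJ3 K) : IM 5 K := by
  have hfin : Finite K := Nat.finite_of_card_ne_zero (by rw [card_j3 h]; norm_num)
  have h3 : Fact (Nat.Prime 3) := ⟨by norm_num⟩
  have h5 : Fact (Nat.Prime 5) := ⟨by norm_num⟩
  obtain ⟨y, hy, hyC⟩ := exists_five h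
  have hm : numCls 5 (zpowers y) ≤ 3 := numCls_dih (p := 5) (q := 3) (by norm_num) (by norm_num) (Or.inl rfl) hy
    (by rw [hyC]) (no_thirty h)
  have hf := fac h (q := 5) (by norm_num) (by norm_num)
  have he : (fus (p := 5) y).card = 2 := fus_card_eq (p := 5) (e := 2) (c := 6) hf hy (by rw [hyC])
    (by rw [card_j3 h]; decide)
  refine IM_T5_orders hf hy he.le hm {1, 2, 3, 4, 6, 8, 12, 17, 19} (fun n hn => ⟨?_, ?_⟩) (by decide)
  · revert hn; generalize n = m; intro hm; fin_cases hm <;> norm_num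
  · exact exists_ord h (by fin_cases hn <;> decide)

theorem im_seventeen (h : Spor.IsoJ3 K) : IM 17 K := by
  have hfin : Finite K := Nat.finite_of_card_ne_zero (by rw [card_j3 h]; norm_num)
  have h17 : Fact (Nat.Prime 17) := ⟨by norm_num⟩
  obtain ⟨y, hy⟩ := exists_ord h (n := 17) (by decide)
  refine IM_of_hasDZ (by rw [card_j3 h]; norm_num) (hasDZ_of_orders (fac h (by norm_num) (by norm_num)) hy
    (H898.J3Cent.seventeen h hy).1 {1, 2, 3, 4, 5, 6, 8, 10, 12, 19} (fun n hn => ⟨?_, ?_⟩) ?_)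
  · revert hn; generalize n = m; intro hm; fin_cases hm <;> norm_num
  · exact exists_ord h (by fin_cases hn <;> decide)
  · rw [card_j3 h]; decide

/-- **Itô-Michler for `J₃`** -/
theorem im_j3 (h : Spor.IsoJ3 K) {p : ℕ} [hp : Fact p.Prime] (hpK : p ∣ Nat.card K) : IM p K := by
  have hcK := card_j3 h
  have hfin : Finite K := Nat.finite_of_card_ne_zero (by rw [hcK]; norm_num)
  have h17 : Fact (Nat.Prime 17) := ⟨by norm_num⟩
  obtain ⟨g, hg⟩ := exists_ord h (n := 17) (by decide)
  have hgC := (H898.J3Cent.seventeen h hg).1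
  have hg1 : g ≠ 1 := by rintro rfl; rw [orderOf_one] at hg; norm_num at hg
  have hreal : IsConj g g⁻¹ := by
    refine isConj_inv_of_even (p := 17) (by rw [← hg]; exact pow_orderOf_eq_one g) ?_
    rw [fus_card_eq (p := 17) (e := 8) (c := 1) (fac h (by norm_num) (by norm_num)) hg (by rw [hgC])
      (by rw [hcK]; decide)]
    decide
  rw [hcK] at hpK
  rcases H898.J3Cent.prime_dvd_card hp.out hpK with rfl | rfl | rfl | rfl | rfl
  · exact IM_two_of_real hg1 hreal (by rw [hgC]; decide)
  · refine IM_of_real (k := 5) hg1 hreal (by rw [hgC]; decide) (by rw [hgC]; norm_num) (by rw [hcK]; norm_num)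
      fun t ht => ?_
    rw [card_two h ht]; norm_num
  · exact im_five h
  · exact im_seventeen h
  · refine IM_of_real (k := 1) hg1 hreal (by rw [hgC]; decide) (by rw [hgC]; norm_num) (by rw [hcK]; norm_num)
      fun t ht => ?_
    rw [card_two h ht]; norm_num

end

end Cfsg.Agent.H724.IMJThree
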