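import Cfsg.Agent.H33.IM
import Cfsg.Agent.H672.SC
import Cfsg.Agent.H593.IMCyc
import Cfsg.Agent.H713.Engine
import Cfsg.Agent.H665.EvenDegree

/-!
# Itô-Michler: tools for groups with Sylow subgroups of prime order (helper724)

* `IM_of_hasDZ`, `IM_two_of_real` : transport of known criteria.
* `fus_pow_card`, `neg_one_mem_fus`, `fus_card_eq` : the group of fusion exponents of an element of
  prime order.
* `IM_T5`, `IM_T5_orders` : the criterion of helper593 for a Sylow subgroup `⟨x⟩` of prime order.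
* `numCls_dih` : the number `m` when `C_G(x) = ⟨x⟩ × D_{2q}`, `q = 3, 5`.
-/

set_option autoImplicit false

namespace Cfsg.Agent.H724.IMTool

open Subgroup Cfsg Cfsg.Agent.H33 Cfsg.Agent.H665.NoPQ Cfsg.Agent.H713 Cfsg.Agent.H713.Count
open Cfsg.Agent.H593.IMCyc Cfsg.Agent.Blocks.Basic

open scoped Pointwise

universe u

section

variable {G : Type u} [Group G] {p : ℕ} [hp : Fact p.Prime]

theorem IM_of_hasDZ [Finite G] (hpG : p ∣ Nat.card G) (h : HasDZ p G) : IM p G := by
  obtain ⟨χ, hχ⟩ := h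
  refine ⟨χ, ?_⟩
  have h0 := (charDegree_pos χ.2).ne'
  rw [hp.out.dvd_iff_one_le_factorization h0, hχ]
  exact (hp.out.dvd_iff_one_le_factorization Nat.card_pos.ne').1 hpG

omit hp in
theorem IM_two_of_real [Finite G] {x : G} (hx : x ≠ 1) (hreal : IsConj x x⁻¹)
    (hodd : Odd (Nat.card (centralizer ({x} : Set G)))) : IM 2 G := by
  obtain ⟨χ, hχ⟩ := Cfsg.Agent.H665.EvenDegree.exists_even_degree hx hreal hodd
  exact ⟨χ, hχ.two_dvd⟩

omit hp in
/-- a real element with centralizer of odd order is inverted by an involution -/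
theorem exists_invol [Finite G] {g : G} (hg : g ≠ 1) (hreal : IsConj g g⁻¹)
    (hodd : Odd (Nat.card (centralizer ({g} : Set G)))) :
    ∃ t : G, orderOf t = 2 ∧ t * g * t⁻¹ = g⁻¹ := by
  obtain ⟨c, hc⟩ := isConj_iff.1 hreal
  have h1 : ∀ n : ℕ, c ^ (2 * n) * g * (c ^ (2 * n))⁻¹ = g := by
    intro n
    induction n with
    | zero => simp
    | succ n ih =>
      have h3 : c * g⁻¹ * c⁻¹ = g := by
        calc c * g⁻¹ * c⁻¹ = (c * g * c⁻¹)⁻¹ := by group
          _ = g := by rw [hc, inv_inv]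
      calc c ^ (2 * (n + 1)) * g * (c ^ (2 * (n + 1)))⁻¹
          = c * (c * (c ^ (2 * n) * g * (c ^ (2 * n))⁻¹) * c⁻¹) * c⁻¹ := by
            rw [show 2 * (n + 1) = 2 + 2 * n by ring, pow_add, pow_two]; group
        _ = g := by rw [ih, hc, h3]
  have h2 : c ^ 2 ∈ centralizer ({g} : Set G) := by
    rw [mem_centralizer_singleton_iff]
    have h3 := h1 1
    rw [mul_one] at h3
    exact mul_inv_eq_iff_eq_mul.1 h3
  set m := Nat.card (centralizer ({g} : Set G)) with hm
  have h3 : (c ^ 2) ^ m = 1 := by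
    have h4 : (⟨c ^ 2, h2⟩ : centralizer ({g} : Set G)) ^ m = 1 := pow_card_eq_one'
    exact congrArg Subtype.val h4
  obtain ⟨k, hk⟩ := hodd
  have h5 : c ^ m * g * (c ^ m)⁻¹ = g⁻¹ := by
    calc c ^ m * g * (c ^ m)⁻¹ = c * (c ^ (2 * k) * g * (c ^ (2 * k))⁻¹) * c⁻¹ := by
          rw [hk, pow_succ']; group
      _ = g⁻¹ := by rw [h1, hc]
  by_cases h6 : c ^ m = 1
  · rw [h6] at h5
    have h7 : g = g⁻¹ := by simpa using h5
    have h8 : g ^ 2 = 1 := by rw [pow_two]; nth_rewrite 2 [h7]; exact mul_inv_cancel g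
    exfalso
    have h9 : orderOf g = 2 := orderOf_eq_prime h8 hg
    have h10 : orderOf g ∣ m := by
      have hgC : g ∈ centralizer ({g} : Set G) := mem_centralizer_singleton_iff.2 rfl
      rw [← orderOf_mk g hgC]; exact orderOf_dvd_natCard _
    rw [h9] at h10
    omega
  · exact ⟨c ^ m, orderOf_eq_prime (by rw [← pow_mul, mul_comm, pow_mul]; exact h3) h6, h5⟩

/-- the involution criterion of helper672 -/
theorem IM_of_real [Finite G] {g : G} (hg : g ≠ 1) (hreal : IsConj g g⁻¹)
    (hodd : Odd (Nat.card (centralizer ({g} : Set G))))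
    (hpg : ¬ p ∣ Nat.card (centralizer ({g} : Set G))) {k : ℕ} (hk : p ^ k ∣ Nat.card G)
    (h : ∀ t : G, orderOf t = 2 → ¬ p ^ k ∣ Nat.card (centralizer ({t} : Set G)) ^ 2) : IM p G := by
  obtain ⟨t, ht, htg⟩ := exists_invol hg hreal hodd
  have ht2 : t * t = 1 := by rw [← pow_two, ← ht, pow_orderOf_eq_one]
  exact Cfsg.Agent.H672.SC.IM.of_inverted ht2 htg hodd hpg hk (h t ht)

omit hp in
theorem orderOf_conj (c g : G) : orderOf (c * g * c⁻¹) = orderOf g := by
  have := orderOf_injective (MulAut.conj c).toMonoidHom (MulAut.conj c).injective g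
  simpa using this

/-! ### fusion exponents -/

theorem mul_mem_fus {x : G} (hx : x ^ p = 1) {m n : ZMod p} (hm : m ∈ fus (p := p) x)
    (hn : n ∈ fus (p := p) x) : m * n ∈ fus (p := p) x := by
  rw [mem_fus] at hm hn ⊢
  refine ⟨mul_ne_zero hm.1 hn.1, ?_⟩
  have h1 : x ^ (m * n).val = (x ^ m.val) ^ n.val := by
    rw [← pow_mul, ZMod.val_mul]
    conv_rhs => rw [← Nat.mod_add_div (m.val * n.val) p, pow_add, pow_mul, hx, one_pow, mul_one]
  rw [h1]
  refine hn.2.trans ?_
  obtain ⟨c, hc⟩ := isConj_iff.1 hm.2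
  refine isConj_iff.2 ⟨c, ?_⟩
  rw [← hc, conj_pow]

/-- the group of fusion exponents -/
noncomputable def fusU (x : G) (hx : x ^ p = 1) : Subgroup (ZMod p)ˣ :=
  subgroupOfFinite
where
  subgroupOfFinite : Subgroup (ZMod p)ˣ :=
    { carrier := {u | (u : ZMod p) ∈ fus (p := p) x}
      mul_mem' := fun {a b} ha hb => by
        show ((a * b : (ZMod p)ˣ) : ZMod p) ∈ fus x
        rw [Units.val_mul]
        exact mul_mem_fus hx ha hb
      one_mem' := by
        show ((1 : (ZMod p)ˣ) : ZMod p) ∈ fus x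
        rw [Units.val_one]
        exact one_mem_fus
      inv_mem' := fun {a} ha => by
        show ((a⁻¹ : (ZMod p)ˣ) : ZMod p) ∈ fus x
        have h1 : ∀ k : ℕ, ((a ^ k : (ZMod p)ˣ) : ZMod p) ∈ fus (p := p) x := by
          intro k
          induction k with
          | zero => rw [pow_zero, Units.val_one]; exact one_mem_fus
          | succ k ih => rw [pow_succ, Units.val_mul]; exact mul_mem_fus hx ih ha
        obtain ⟨k, hk⟩ : ∃ k : ℕ, a⁻¹ = a ^ k := by
          refine ⟨orderOf a - 1, ?_⟩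
          rw [inv_eq_iff_mul_eq_one, ← pow_succ', Nat.sub_add_cancel (orderOf_pos a), pow_orderOf_eq_one]
        rw [hk]
        exact h1 k }

theorem mem_fusU {x : G} (hx : x ^ p = 1) {u : (ZMod p)ˣ} :
    u ∈ fusU x hx ↔ (u : ZMod p) ∈ fus (p := p) x := Iff.rfl

theorem card_fusU {x : G} (hx : x ^ p = 1) : Nat.card (fusU x hx) = (fus (p := p) x).card := by
  classical
  have h1 : Nat.card (fus (p := p) x) = (fus (p := p) x).card := by
    rw [Nat.card_eq_fintype_card, Fintype.card_coe]
  rw [← h1]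
  refine Nat.card_congr ⟨fun u => ⟨(u : (ZMod p)ˣ), u.2⟩, fun m => ⟨Units.mk0 m.1 (mem_fus.1 m.2).1, ?_⟩, ?_, ?_⟩
  · rw [mem_fusU]; exact m.2
  · intro u
    apply Subtype.ext
    apply Units.ext
    rfl
  · intro m
    rfl

theorem fus_pow_card {x : G} (hx : x ^ p = 1) {m : ZMod p} (hm : m ∈ fus (p := p) x) :
    m ^ (fus (p := p) x).card = 1 := by
  have hm0 := (mem_fus.1 hm).1
  have h1 : Units.mk0 m hm0 ∈ fusU x hx := hm
  have h2 : (⟨Units.mk0 m hm0, h1⟩ : fusU x hx) ^ (fus (p := p) x).card = 1 := by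
    rw [← card_fusU hx]
    exact pow_card_eq_one'
  have h3 := congrArg (fun u : fusU x hx => ((u : (ZMod p)ˣ) : ZMod p)) h2
  simpa using h3

/-- two powers with exponents outside the group of fusion exponents are not conjugate -/
theorem not_isConj_pow {x : G} (hx : x ^ p = 1) {k : ℕ} (hk : ¬ p ∣ k)
    (h : k ^ (fus (p := p) x).card % p ≠ 1 % p) : ¬ IsConj x (x ^ k) := by
  intro hc
  apply h
  have h0 : (k : ZMod p) ^ (fus (p := p) x).card = 1 → k ^ (fus (p := p) x).card % p = 1 % p := by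
    intro h1
    have h2 : ((k ^ (fus (p := p) x).card : ℕ) : ZMod p) = ((1 : ℕ) : ZMod p) := by
      push_cast
      exact h1
    exact (ZMod.natCast_eq_natCast_iff _ _ _).1 h2
  apply h0
  apply fus_pow_card hx
  rw [mem_fus]
  refine ⟨fun h3 => hk ((ZMod.natCast_eq_zero_iff _ _).1 h3), ?_⟩
  have h1 : x ^ (k : ZMod p).val = x ^ k := by
    rw [ZMod.val_natCast]
    conv_rhs => rw [← Nat.mod_add_div k p, pow_add, pow_mul, hx, one_pow, mul_one]
  rw [h1]
  exact hc

theorem isConj_inv_of_even {x : G} (hx : x ^ p = 1) (he : Even (fus (p := p) x).card) :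
    IsConj x x⁻¹ := by
  classical
  have h2 : Fact (Nat.Prime 2) := ⟨Nat.prime_two⟩
  obtain ⟨u, hu⟩ := exists_prime_orderOf_dvd_card' (G := fusU x hx) 2 (by rw [card_fusU]; exact he.two_dvd)
  have h3 : ((u : (ZMod p)ˣ) : ZMod p) * ((u : (ZMod p)ˣ) : ZMod p) = 1 := by
    have h4 := pow_orderOf_eq_one u
    rw [hu, pow_two] at h4
    have h5 := congrArg (fun u : fusU x hx => ((u : (ZMod p)ˣ) : ZMod p)) h4
    simpa using h5
  have h4 : ((u : (ZMod p)ˣ) : ZMod p) ≠ 1 := by
    intro h5
    have h6 : u = 1 := by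
      apply Subtype.ext
      apply Units.ext
      exact h5
    rw [h6, orderOf_one] at hu
    norm_num at hu
  have h5 : ((u : (ZMod p)ˣ) : ZMod p) = -1 := (mul_self_eq_one_iff.1 h3).resolve_left h4
  have h6 := (mem_fusU hx).1 u.2
  rw [h5, mem_fus] at h6
  have h7 : x ^ (-1 : ZMod p).val = x⁻¹ := by
    rw [eq_inv_iff_mul_eq_one, ← pow_succ]
    have h8 : (((-1 : ZMod p).val + 1 : ℕ) : ZMod p) = 0 := by
      push_cast
      rw [ZMod.natCast_zmod_val]
      ring
    rw [ZMod.natCast_eq_zero_iff] at h8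
    obtain ⟨k, hk⟩ := h8
    rw [hk, pow_mul, hx, one_pow]
  rw [h7] at h6
  exact h6.2

theorem fus_card_dvd {x : G} (hx : x ^ p = 1) : (fus (p := p) x).card ∣ p - 1 :=
  ⟨_, (card_fus_mul_card_sing hx).symm⟩

/-- the number of fusion exponents from the order of the centralizer and Sylow's theorem -/
theorem fus_card_eq [Finite G] (hG : (Nat.card G).factorization p = 1) {x : G} (hx : orderOf x = p)
    {c e : ℕ} (hc : Nat.card (centralizer ({x} : Set G)) = p * c)
    (h : ∀ k ∈ (p - 1).divisors, k * c % p = Nat.card G / p % p → k = e) :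
    (fus (p := p) x).card = e := by
  have hxp : x ^ p = 1 := by rw [← hx]; exact pow_orderOf_eq_one x
  refine h _ ?_ (card_fus_mul hG hx hc)
  rw [Nat.mem_divisors]
  exact ⟨fus_card_dvd hxp, by have := hp.out.one_lt; omega⟩

/-! ### Sylow subgroups of prime order -/

omit hp in
theorem centralizer_zpowers (y : G) :
    centralizer ((zpowers y : Subgroup G) : Set G) = centralizer ({y} : Set G) := by
  rw [zpowers_eq_closure, centralizer_closure]

/-- elements of prime order `p` in a group with Sylow `p`-subgroup `⟨y⟩` -/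
theorem mk_mem_sing [Finite G] (hG : (Nat.card G).factorization p = 1) {y c : G} (hy : orderOf y = p)
    (hc : orderOf c = p) : ConjClasses.mk c ∈ sing p y := by
  have hcard : ∀ z : G, orderOf z = p → Nat.card (zpowers z) = p ^ (Nat.card G).factorization p := by
    intro z hz
    rw [Nat.card_zpowers, hz, hG, pow_one]
  let P : Sylow p G := Sylow.ofCard (zpowers y) (hcard y hy)
  let Q : Sylow p G := Sylow.ofCard (zpowers c) (hcard c hc)
  obtain ⟨g, hg⟩ := MulAction.exists_smul_eq G P Q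
  have h2 : c ∈ (Q : Subgroup G) := mem_zpowers c
  rw [← hg] at h2
  have h3 : g⁻¹ * c * g ∈ (P : Subgroup G) := by
    have := (Subgroup.mem_pointwise_smul_iff_inv_smul_mem (S := (P : Subgroup G))).1 (show c ∈ MulAut.conj g • (P : Subgroup G) from h2)
    simpa [MulAut.smul_def, ← map_inv, MulAut.conj_apply] using this
  have hyp : y ^ p = 1 := by rw [← hy]; exact pow_orderOf_eq_one y
  have h3' : g⁻¹ * c * g ∈ zpowers y := h3
  rw [← mem_powers_iff_mem_zpowers] at h3'
  obtain ⟨k, hk⟩ := h3'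
  have hk' : y ^ k = g⁻¹ * c * g := hk
  have h4 : y ^ (k : ZMod p).val = y ^ k := by
    rw [ZMod.val_natCast]
    conv_rhs => rw [← Nat.mod_add_div k p, pow_add, pow_mul, hyp, one_pow, mul_one]
  rw [mem_sing]
  refine ⟨(k : ZMod p), ?_, ?_⟩
  · intro h5
    rw [h5, ZMod.val_zero, pow_zero, hk'] at h4
    have h6 : c = 1 := by
      calc c = g * (g⁻¹ * c * g) * g⁻¹ := by group
        _ = 1 := by rw [← h4]; group
    rw [h6, orderOf_one] at hc
    exact hp.out.one_lt.ne hc
  · rw [h4, hk', ConjClasses.mk_eq_mk_iff_isConj, isConj_iff]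
    exact ⟨g, by group⟩

theorem relIndex_eq [Finite G] {x : G} (hx : orderOf x = p) :
    (centralizer ((zpowers x : Subgroup G) : Set G)).relIndex (normalizer (zpowers x : Set G)) =
      (fus (p := p) x).card := by
  have h1 := card_normalizer_zpowers hx
  have h2 : Nat.card (centralizer ((zpowers x : Subgroup G) : Set G)) *
      (centralizer ((zpowers x : Subgroup G) : Set G)).relIndex (normalizer (zpowers x : Set G)) =
      Nat.card (normalizer (zpowers x : Set G)) := by
    have h3 := ((centralizer ((zpowers x : Subgroup G) : Set G)).subgroupOf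
      (normalizer (zpowers x : Set G))).card_mul_index
    rwa [Nat.card_congr (subgroupOfEquivOfLe (centralizer_le_normalizer (zpowers x))).toEquiv] at h3
  rw [h1, centralizer_zpowers, mul_comm] at h2
  rw [centralizer_zpowers]
  exact Nat.eq_of_mul_eq_mul_right Nat.card_pos h2

/-- **T5** for a Sylow subgroup of prime order. -/
theorem IM_T5 [Finite G] (hG : (Nat.card G).factorization p = 1) {x : G} (hx : orderOf x = p)
    {e m : ℕ} (he : (fus (p := p) x).card ≤ e) (hm : numCls p (zpowers x) ≤ m)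
    {ι : Type*} [Fintype ι] (t : ι → G) (ht : ∀ i, ¬ p ∣ orderOf (t i))
    (hne : ∀ i j, IsConj (t i) (t j) → i = j) (hlt : e * m < Fintype.card ι) : IM p G := by
  have hcard : Nat.card (zpowers x) = p ^ (Nat.card G).factorization p := by
    rw [Nat.card_zpowers, hx, hG, pow_one]
  let P : Sylow p G := Sylow.ofCard (zpowers x) hcard
  have hpG : p ∣ Nat.card G := by rw [← hx]; exact orderOf_dvd_natCard x
  refine IM_of_classes P (show IsCyclic (zpowers x) from inferInstance) hpG t ht hne (lt_of_le_of_lt ?_ hlt)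
  refine Nat.mul_le_mul ?_ hm
  exact (relIndex_eq hx).le.trans he

/-- **T5**, orders. -/
theorem IM_T5_orders [Finite G] (hG : (Nat.card G).factorization p = 1) {x : G} (hx : orderOf x = p)
    {e m : ℕ} (he : (fus (p := p) x).card ≤ e) (hm : numCls p (zpowers x) ≤ m)
    (S : Finset ℕ) (hS : ∀ n ∈ S, ¬ p ∣ n ∧ ∃ g : G, orderOf g = n) (hlt : e * m < S.card) : IM p G := by
  choose t ht using fun n : S => (hS n n.2).2
  refine IM_T5 hG hx he hm t (fun i => by rw [ht i]; exact (hS i i.2).1) (fun i j hij => ?_)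
    (by rwa [Fintype.card_coe])
  obtain ⟨c, hc⟩ := isConj_iff.1 hij
  apply Subtype.ext
  rw [← ht i, ← ht j, ← orderOf_conj c, hc]

/-- **T5**, lists of nonconjugate elements of the same order. -/
theorem IM_T5_lists [Finite G] (hG : (Nat.card G).factorization p = 1) {x : G} (hx : orderOf x = p)
    {e m : ℕ} (he : (fus (p := p) x).card ≤ e) (hm : numCls p (zpowers x) ≤ m)
    (S : Finset ℕ) (f : ℕ → ℕ) (hS : ∀ n ∈ S, ¬ p ∣ n ∧ ∃ l : List G, l.length = f n ∧
      (∀ g ∈ l, orderOf g = n) ∧ l.Pairwise fun a b => ¬ IsConj a b)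
    (hlt : e * m < ∑ n ∈ S, f n) : IM p G := by
  choose l hl using fun n : S => (hS n n.2).2
  refine IM_T5 hG hx he hm (ι := Σ n : S, Fin (l n).length) (fun i => (l i.1).get i.2) ?_ ?_ ?_
  · rintro ⟨n, i⟩
    rw [(hl n).2.1 _ (List.get_mem _ _)]
    exact (hS n n.2).1
  · rintro ⟨n, i⟩ ⟨k, j⟩ hij
    have h1 : (n : ℕ) = k := by
      obtain ⟨c, hc⟩ := isConj_iff.1 hij
      rw [← (hl n).2.1 _ (List.get_mem (l n) i), ← (hl k).2.1 _ (List.get_mem (l k) j), ← orderOf_conj c, hc]
    have h2 : n = k := Subtype.ext h1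
    subst h2
    have h3 := List.pairwise_iff_get.1 (hl n).2.2
    rcases lt_trichotomy i j with h4 | h4 | h4
    · exact absurd hij (h3 i j h4)
    · rw [h4]
    · exact absurd hij.symm (h3 j i h4)
  · rw [Fintype.card_sigma]
    simp only [Fintype.card_fin]
    calc e * m < ∑ n ∈ S, f n := hlt
      _ = ∑ n : S, f n := (Finset.sum_coe_sort S f).symm
      _ = _ := Finset.sum_congr rfl fun n _ => ((hl n).1).symm

end

/-! ### centralizers of shape `p × D_{2q}` -/

section dih

variable {C : Type u} [Group C] [Finite C] {p q : ℕ} [hp : Fact p.Prime] [hq : Fact q.Prime]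

theorem dih_classes (hp2 : p ≠ 2) (hpq : p ≠ q) (hq5 : q = 3 ∨ q = 5)
    (hc : Nat.card C = 2 * p * q) {x : C} (hx : orderOf x = p) (hxc : ∀ g, g * x = x * g)
    (hno : ∀ g : C, orderOf g ≠ 2 * p * q) :
    ∃ (ι : Type u) (_ : Fintype ι) (t : ι → C), Fintype.card ι = 2 + (q - 1) / 2 ∧
      ∀ c : C, ¬ p ∣ orderOf c → ∃ i, IsConj (t i) c := by
  classical
  have h2 : Fact (Nat.Prime 2) := ⟨Nat.prime_two⟩
  have hq2 : q ≠ 2 := by rcases hq5 with rfl | rfl <;> norm_num
  have cpq : Nat.Coprime p q := (Nat.coprime_primes hp.out hq.out).2 hpq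
  have c2p : Nat.Coprime 2 p := (Nat.coprime_primes Nat.prime_two hp.out).2 (Ne.symm hp2)
  have c2q : Nat.Coprime 2 q := (Nat.coprime_primes Nat.prime_two hq.out).2 (Ne.symm hq2)
  obtain ⟨s, hs⟩ := exists_prime_orderOf_dvd_card' (G := C) 2 (by rw [hc, mul_assoc]; exact dvd_mul_right _ _)
  obtain ⟨y, hy⟩ := exists_prime_orderOf_dvd_card' (G := C) q (by rw [hc]; exact dvd_mul_left _ _)
  have f2 : (Nat.card C).factorization 2 = 1 := by
    rw [hc, mul_assoc, Nat.factorization_mul (by norm_num) (Nat.mul_ne_zero hp.out.ne_zero hq.out.ne_zero),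
      Finsupp.add_apply, Nat.factorization_eq_zero_of_not_dvd (n := p * q), Nat.prime_two.factorization_self]
    intro h
    rcases (Nat.Prime.dvd_mul Nat.prime_two).1 h with h | h
    · exact hp2 ((Nat.prime_dvd_prime_iff_eq Nat.prime_two hp.out).1 h).symm
    · exact hq2 ((Nat.prime_dvd_prime_iff_eq Nat.prime_two hq.out).1 h).symm
  have fq : (Nat.card C).factorization q = 1 := by
    rw [hc, Nat.factorization_mul (Nat.mul_ne_zero (by norm_num) hp.out.ne_zero) hq.out.ne_zero,
      Finsupp.add_apply, Nat.factorization_eq_zero_of_not_dvd (n := 2 * p), hq.out.factorization_self]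
    intro h
    rcases (Nat.Prime.dvd_mul hq.out).1 h with h | h
    · exact hq2 ((Nat.prime_dvd_prime_iff_eq hq.out Nat.prime_two).1 h)
    · exact hpq ((Nat.prime_dvd_prime_iff_eq hq.out hp.out).1 h).symm
  have hyq : y ^ q = 1 := by rw [← hy]; exact pow_orderOf_eq_one y
  have hs2 : s ^ 2 = 1 := by rw [← hs]; exact pow_orderOf_eq_one s
  -- the order of `x y`
  have hxy : orderOf (x * y) = p * q := by
    rw [(show Commute x y from (hxc y).symm).orderOf_mul_eq_mul_orderOf_of_coprime (by rw [hx, hy]; exact cpq), hx, hy]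
  -- the centralizer of `y`
  have hCy : Nat.card (centralizer ({y} : Set C)) = q * p := by
    have hd : Nat.card (centralizer ({y} : Set C)) ∣ 2 * (p * q) := by
      rw [← mul_assoc, ← hc]; exact card_subgroup_dvd_card _
    have hxyC : x * y ∈ centralizer ({y} : Set C) := by
      rw [mem_centralizer_singleton_iff, mul_assoc, ← mul_assoc y, hxc y, mul_assoc]
    have hd2 : p * q ∣ Nat.card (centralizer ({y} : Set C)) := by
      rw [← hxy, ← orderOf_mk (x * y) hxyC]; exact orderOf_dvd_natCard _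
    obtain ⟨k, hk⟩ := hd2
    have hk2 : k ∣ 2 := by
      rw [hk, mul_comm 2] at hd
      exact Nat.dvd_of_mul_dvd_mul_left (Nat.mul_pos hp.out.pos hq.out.pos) hd
    rcases (Nat.dvd_prime Nat.prime_two).1 hk2 with rfl | rfl
    · rw [hk, mul_one, mul_comm]
    · exfalso
      obtain ⟨⟨r, hr⟩, hr2⟩ := exists_prime_orderOf_dvd_card' (G := centralizer ({y} : Set C)) 2
        (by rw [hk]; exact dvd_mul_left _ _)
      rw [orderOf_mk] at hr2
      rw [mem_centralizer_singleton_iff] at hr
      have hcom : Commute r (x * y) := (show Commute r x from hxc r).mul_right hr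
      apply hno (r * (x * y))
      rw [hcom.orderOf_mul_eq_mul_orderOf_of_coprime (by rw [hr2, hxy]; exact Nat.Coprime.mul_right c2p c2q),
        hr2, hxy, mul_assoc]
  have hdivq : Nat.card C / q = 2 * p := by rw [hc, Nat.mul_div_cancel _ hq.out.pos]
  have hfus : (fus (p := q) y).card = 2 := by
    have h1 := card_fus_mul fq hy hCy
    rw [hdivq] at h1
    have h3 : (fus (p := q) y).card ≡ 2 [MOD q] :=
      Nat.ModEq.cancel_right_of_coprime (by rw [Nat.coprime_iff_gcd_eq_one.1 cpq.symm]) h1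
    have h4 := fus_card_dvd hyq
    rcases hq5 with rfl | rfl
    · have h5 : (fus (p := 3) y).card ∣ 2 := h4
      rcases (Nat.dvd_prime Nat.prime_two).1 h5 with h6 | h6
      · rw [h6] at h3; exact absurd h3 (by decide)
      · exact h6
    · have h5 : (fus (p := 5) y).card ≤ 4 := Nat.le_of_dvd (by norm_num) h4
      generalize (fus (p := 5) y).card = k at *
      have h6 : k % 5 = 2 % 5 := h3
      omega
  have hsq := card_fus_mul_card_sing hyq
  rw [hfus] at hsq
  have hss : (sing 2 s).card = 1 := by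
    have h1 := card_fus_mul_card_sing (p := 2) hs2
    exact Nat.eq_one_of_mul_eq_one_left (show _ = 1 from h1)
  refine ⟨Option ({c // c ∈ sing 2 s} ⊕ {c // c ∈ sing q y}), inferInstance,
    fun i => i.elim 1 (Sum.elim (fun c => Quotient.out c.1) (fun c => Quotient.out c.1)), ?_, ?_⟩
  · rw [Fintype.card_option, Fintype.card_sum, Fintype.card_coe, Fintype.card_coe, hss]
    omega
  · intro c hcp
    have h1 : orderOf c ∣ 2 * q := by
      have h3 : orderOf c ∣ p * (2 * q) := by
        rw [show p * (2 * q) = 2 * p * q by ring, ← hc]; exact orderOf_dvd_natCard c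
      have h4 : Nat.Coprime (orderOf c) p := ((Nat.Prime.coprime_iff_not_dvd hp.out).2 hcp).symm
      exact h4.dvd_of_dvd_mul_left h3
    have h3 : orderOf c = 1 ∨ orderOf c = 2 ∨ orderOf c = q := by
      have h5 : orderOf c ≠ 2 * q := by
        intro h6
        apply hno (c * x)
        rw [(show Commute c x from hxc c).orderOf_mul_eq_mul_orderOf_of_coprime
          (by rw [h6, hx]; exact Nat.Coprime.mul_left c2p cpq.symm), h6, hx]
        ring
      by_cases h6 : 2 ∣ orderOf c
      · obtain ⟨k, hk⟩ := h6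
        rw [hk] at h1
        rcases (Nat.dvd_prime hq.out).1 (Nat.dvd_of_mul_dvd_mul_left (by norm_num) h1) with h7 | h7
        · right; left; rw [hk, h7]
        · exact absurd (by rw [hk, h7]) h5
      · have h7 : Nat.Coprime (orderOf c) 2 := ((Nat.Prime.coprime_iff_not_dvd Nat.prime_two).2 h6).symm
        rcases (Nat.dvd_prime hq.out).1 (h7.dvd_of_dvd_mul_left h1) with h8 | h8
        · exact Or.inl h8
        · exact Or.inr (Or.inr h8)
    have hout : ∀ d : ConjClasses C, ConjClasses.mk c = d → IsConj (Quotient.out d) c := by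
      intro d hd
      rw [← ConjClasses.mk_eq_mk_iff_isConj, hd]
      exact Quotient.out_eq d
    rcases h3 with h3 | h3 | h3
    · refine ⟨none, ?_⟩
      rw [orderOf_eq_one_iff.1 h3]
      exact IsConj.refl _
    · exact ⟨some (Sum.inl ⟨_, mk_mem_sing f2 hs h3⟩), hout _ rfl⟩
    · exact ⟨some (Sum.inr ⟨_, mk_mem_sing fq hy h3⟩), hout _ rfl⟩

end dih

variable {G : Type u} [Group G] {p q : ℕ} [hp : Fact p.Prime] [hq : Fact q.Prime]

theorem numCls_dih [Finite G] (hp2 : p ≠ 2) (hpq : p ≠ q) (hq5 : q = 3 ∨ q = 5)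
    {x : G} (hx : orderOf x = p) (hc : Nat.card (centralizer ({x} : Set G)) = 2 * p * q)
    (hno : ∀ g : G, orderOf g ≠ 2 * p * q) : numCls p (zpowers x) ≤ 2 + (q - 1) / 2 := by
  have hC := centralizer_zpowers x
  have hxC : x ∈ centralizer ((zpowers x : Subgroup G) : Set G) := by
    rw [hC, mem_centralizer_singleton_iff]
  obtain ⟨ι, _, t, h1, h2⟩ := dih_classes (C := centralizer ((zpowers x : Subgroup G) : Set G)) hp2 hpq hq5
    (by rw [hC]; exact hc) (x := ⟨x, hxC⟩) (by rw [orderOf_mk]; exact hx)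
    (fun g => Subtype.ext (by
      have h3 : ∀ a : G, a ∈ centralizer ((zpowers x : Subgroup G) : Set G) → a * x = x * a := by
        intro a ha
        rw [hC, mem_centralizer_singleton_iff] at ha
        exact ha
      exact h3 _ g.2))
    (fun g => by rw [← Subgroup.orderOf_coe]; exact hno _)
  rw [← h1]
  exact numCls_le (zpowers x) t h2

end Cfsg.Agent.H724.IMTool
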