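import Cfsg.Agent.Classification.RTwo.UThreeThree

/-!
# The row `PSU_3(q)`, `p = 2` (task 1533, for S3832, S4336): matrices over the field with nine elements

* `outer_cover`, `outer_ok` : every `A = diag(1, [[a, b], [b, d]])` with `A Ā = 1` inverts an element of order seven;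
* `inner_cover`, `inner_ok` : every involution of `SU_3(3)` with eigenvector `e₀` has three conjugates generating a
  perfect group.
-/

set_option autoImplicit false

namespace Cfsg.Agent.H724.RowPsu.Nine

open Matrix Cfsg Cfsg.Agent.Classification.RTwo.UThreeThree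

abbrev M3 := Matrix (Fin 3) (Fin 3) K9

/-- `x ↦ x³` -/
def cj (x : K9) : K9 := ⟨x.re, -x.im⟩

theorem cj_eq (x : K9) : cj x = x ^ 3 := by
  obtain ⟨r, s⟩ := x
  revert r s
  decide +kernel

/-- `diag(1, [[a, b], [b, d]])` -/
def mA (t : K9 × K9 × K9) : M3 := !![1, 0, 0; 0, t.1, t.2.1; 0, t.2.1, t.2.2]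

/-- `diag(c, [[a, b], [b̄, d]])` -/
def mX (t : K9 × K9 × K9 × K9) : M3 := !![t.1, 0, 0; 0, t.2.1, t.2.2.1; 0, cj t.2.2.1, t.2.2.2]

/-- the outer involutions fixing `e₀`: `A`, an inverted element `M` of order seven, `M²`, `M⁴` -/
def LO : List ((K9 × K9 × K9) × M3 × M3 × M3) := [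
  ((⟨0, 0⟩, ⟨1, 0⟩, ⟨0, 0⟩), !![⟨1, 1⟩, ⟨1, 1⟩, ⟨0, 0⟩; ⟨0, 0⟩, ⟨0, 0⟩, ⟨0, 2⟩; ⟨1, 1⟩, ⟨2, 2⟩, ⟨0, 0⟩],
    !![⟨0, 2⟩, ⟨0, 2⟩, ⟨1, 2⟩; ⟨1, 2⟩, ⟨2, 1⟩, ⟨0, 0⟩; ⟨0, 2⟩, ⟨0, 2⟩, ⟨2, 1⟩],
    !![⟨0, 1⟩, ⟨2, 0⟩, ⟨2, 1⟩; ⟨2, 1⟩, ⟨2, 0⟩, ⟨0, 1⟩; ⟨2, 0⟩, ⟨1, 2⟩, ⟨2, 0⟩]),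
  ((⟨0, 0⟩, ⟨2, 0⟩, ⟨0, 0⟩), !![⟨1, 1⟩, ⟨2, 2⟩, ⟨0, 0⟩; ⟨0, 0⟩, ⟨0, 0⟩, ⟨0, 1⟩; ⟨1, 1⟩, ⟨1, 1⟩, ⟨0, 0⟩],
    !![⟨0, 2⟩, ⟨0, 1⟩, ⟨1, 2⟩; ⟨2, 1⟩, ⟨2, 1⟩, ⟨0, 0⟩; ⟨0, 2⟩, ⟨0, 1⟩, ⟨2, 1⟩],
    !![⟨0, 1⟩, ⟨1, 0⟩, ⟨2, 1⟩; ⟨1, 2⟩, ⟨2, 0⟩, ⟨0, 2⟩; ⟨2, 0⟩, ⟨2, 1⟩, ⟨2, 0⟩]),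
  ((⟨0, 0⟩, ⟨0, 1⟩, ⟨0, 0⟩), !![⟨1, 1⟩, ⟨1, 2⟩, ⟨0, 0⟩; ⟨0, 0⟩, ⟨0, 0⟩, ⟨1, 0⟩; ⟨1, 1⟩, ⟨2, 1⟩, ⟨0, 0⟩],
    !![⟨0, 2⟩, ⟨2, 0⟩, ⟨1, 2⟩; ⟨1, 1⟩, ⟨2, 1⟩, ⟨0, 0⟩; ⟨0, 2⟩, ⟨2, 0⟩, ⟨2, 1⟩],
    !![⟨0, 1⟩, ⟨0, 1⟩, ⟨2, 1⟩; ⟨2, 2⟩, ⟨2, 0⟩, ⟨2, 0⟩; ⟨2, 0⟩, ⟨2, 2⟩, ⟨2, 0⟩]),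
  ((⟨0, 0⟩, ⟨0, 2⟩, ⟨0, 0⟩), !![⟨1, 1⟩, ⟨2, 1⟩, ⟨0, 0⟩; ⟨0, 0⟩, ⟨0, 0⟩, ⟨2, 0⟩; ⟨1, 1⟩, ⟨1, 2⟩, ⟨0, 0⟩],
    !![⟨0, 2⟩, ⟨1, 0⟩, ⟨1, 2⟩; ⟨2, 2⟩, ⟨2, 1⟩, ⟨0, 0⟩; ⟨0, 2⟩, ⟨1, 0⟩, ⟨2, 1⟩],
    !![⟨0, 1⟩, ⟨0, 2⟩, ⟨2, 1⟩; ⟨1, 1⟩, ⟨2, 0⟩, ⟨1, 0⟩; ⟨2, 0⟩, ⟨1, 1⟩, ⟨2, 0⟩]),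
  ((⟨1, 0⟩, ⟨0, 0⟩, ⟨1, 0⟩), !![⟨0, 1⟩, ⟨1, 0⟩, ⟨1, 1⟩; ⟨1, 0⟩, ⟨1, 2⟩, ⟨0, 2⟩; ⟨1, 1⟩, ⟨0, 2⟩, ⟨0, 2⟩],
    !![⟨0, 2⟩, ⟨2, 2⟩, ⟨0, 2⟩; ⟨2, 2⟩, ⟨0, 1⟩, ⟨2, 0⟩; ⟨0, 2⟩, ⟨2, 0⟩, ⟨1, 2⟩],
    !![⟨1, 2⟩, ⟨0, 1⟩, ⟨2, 0⟩; ⟨0, 1⟩, ⟨0, 2⟩, ⟨1, 1⟩; ⟨2, 0⟩, ⟨1, 1⟩, ⟨0, 1⟩]),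
  ((⟨1, 0⟩, ⟨0, 0⟩, ⟨2, 0⟩), !![⟨0, 1⟩, ⟨1, 0⟩, ⟨1, 2⟩; ⟨1, 0⟩, ⟨1, 2⟩, ⟨2, 0⟩; ⟨2, 1⟩, ⟨1, 0⟩, ⟨0, 2⟩],
    !![⟨0, 2⟩, ⟨2, 2⟩, ⟨2, 0⟩; ⟨2, 2⟩, ⟨0, 1⟩, ⟨0, 1⟩; ⟨1, 0⟩, ⟨0, 2⟩, ⟨1, 2⟩],
    !![⟨1, 2⟩, ⟨0, 1⟩, ⟨0, 1⟩; ⟨0, 1⟩, ⟨0, 2⟩, ⟨1, 2⟩; ⟨0, 2⟩, ⟨2, 1⟩, ⟨0, 1⟩]),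
  ((⟨1, 0⟩, ⟨0, 0⟩, ⟨0, 1⟩), !![⟨0, 0⟩, ⟨1, 1⟩, ⟨1, 2⟩; ⟨1, 1⟩, ⟨1, 0⟩, ⟨0, 1⟩; ⟨1, 1⟩, ⟨2, 0⟩, ⟨0, 2⟩],
    !![⟨2, 2⟩, ⟨0, 2⟩, ⟨1, 0⟩; ⟨0, 2⟩, ⟨1, 1⟩, ⟨0, 1⟩; ⟨0, 1⟩, ⟨2, 0⟩, ⟨1, 2⟩],
    !![⟨2, 0⟩, ⟨2, 0⟩, ⟨1, 1⟩; ⟨2, 0⟩, ⟨2, 1⟩, ⟨0, 1⟩; ⟨2, 1⟩, ⟨2, 0⟩, ⟨0, 1⟩]),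
  ((⟨1, 0⟩, ⟨0, 0⟩, ⟨0, 2⟩), !![⟨0, 0⟩, ⟨1, 1⟩, ⟨2, 2⟩; ⟨1, 1⟩, ⟨1, 0⟩, ⟨1, 0⟩; ⟨2, 1⟩, ⟨0, 2⟩, ⟨0, 2⟩],
    !![⟨2, 2⟩, ⟨0, 2⟩, ⟨0, 2⟩; ⟨0, 2⟩, ⟨1, 1⟩, ⟨1, 0⟩; ⟨2, 0⟩, ⟨0, 2⟩, ⟨1, 2⟩],
    !![⟨2, 0⟩, ⟨2, 0⟩, ⟨1, 2⟩; ⟨2, 0⟩, ⟨2, 1⟩, ⟨1, 0⟩; ⟨2, 2⟩, ⟨0, 2⟩, ⟨0, 1⟩]),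
  ((⟨2, 0⟩, ⟨0, 0⟩, ⟨1, 0⟩), !![⟨0, 1⟩, ⟨2, 0⟩, ⟨2, 1⟩; ⟨1, 0⟩, ⟨1, 1⟩, ⟨0, 1⟩; ⟨2, 1⟩, ⟨0, 2⟩, ⟨0, 2⟩],
    !![⟨1, 1⟩, ⟨0, 2⟩, ⟨0, 2⟩; ⟨0, 1⟩, ⟨0, 2⟩, ⟨2, 2⟩; ⟨0, 2⟩, ⟨1, 1⟩, ⟨0, 1⟩],
    !![⟨0, 2⟩, ⟨1, 1⟩, ⟨1, 0⟩; ⟨2, 2⟩, ⟨0, 1⟩, ⟨1, 0⟩; ⟨1, 0⟩, ⟨2, 0⟩, ⟨1, 1⟩]),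
  ((⟨2, 0⟩, ⟨0, 0⟩, ⟨2, 0⟩), !![⟨0, 1⟩, ⟨2, 0⟩, ⟨2, 2⟩; ⟨1, 0⟩, ⟨1, 1⟩, ⟨2, 0⟩; ⟨1, 1⟩, ⟨2, 0⟩, ⟨0, 2⟩],
    !![⟨1, 1⟩, ⟨0, 2⟩, ⟨1, 0⟩; ⟨0, 1⟩, ⟨0, 2⟩, ⟨1, 2⟩; ⟨2, 0⟩, ⟨1, 2⟩, ⟨0, 1⟩],
    !![⟨0, 2⟩, ⟨1, 1⟩, ⟨0, 1⟩; ⟨2, 2⟩, ⟨0, 1⟩, ⟨0, 1⟩; ⟨0, 2⟩, ⟨0, 1⟩, ⟨1, 1⟩]),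
  ((⟨2, 0⟩, ⟨0, 0⟩, ⟨0, 1⟩), !![⟨0, 0⟩, ⟨2, 2⟩, ⟨1, 2⟩; ⟨1, 1⟩, ⟨1, 0⟩, ⟨0, 2⟩; ⟨1, 1⟩, ⟨2, 0⟩, ⟨0, 1⟩],
    !![⟨2, 1⟩, ⟨1, 0⟩, ⟨0, 2⟩; ⟨2, 0⟩, ⟨1, 2⟩, ⟨0, 2⟩; ⟨1, 0⟩, ⟨2, 0⟩, ⟨1, 1⟩],
    !![⟨2, 0⟩, ⟨0, 1⟩, ⟨2, 2⟩; ⟨0, 2⟩, ⟨2, 2⟩, ⟨0, 2⟩; ⟨1, 2⟩, ⟨2, 0⟩, ⟨0, 2⟩]),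
  ((⟨2, 0⟩, ⟨0, 0⟩, ⟨0, 2⟩), !![⟨0, 0⟩, ⟨2, 2⟩, ⟨2, 2⟩; ⟨1, 1⟩, ⟨1, 0⟩, ⟨2, 0⟩; ⟨2, 1⟩, ⟨0, 2⟩, ⟨0, 1⟩],
    !![⟨2, 1⟩, ⟨1, 0⟩, ⟨2, 0⟩; ⟨2, 0⟩, ⟨1, 2⟩, ⟨2, 0⟩; ⟨0, 1⟩, ⟨0, 2⟩, ⟨1, 1⟩],
    !![⟨2, 0⟩, ⟨0, 1⟩, ⟨2, 1⟩; ⟨0, 2⟩, ⟨2, 2⟩, ⟨2, 0⟩; ⟨1, 1⟩, ⟨0, 2⟩, ⟨0, 2⟩]),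
  ((⟨0, 1⟩, ⟨0, 0⟩, ⟨1, 0⟩), !![⟨0, 0⟩, ⟨1, 2⟩, ⟨1, 1⟩; ⟨1, 1⟩, ⟨0, 2⟩, ⟨2, 0⟩; ⟨1, 1⟩, ⟨0, 1⟩, ⟨1, 0⟩],
    !![⟨2, 2⟩, ⟨1, 0⟩, ⟨0, 2⟩; ⟨0, 1⟩, ⟨1, 2⟩, ⟨2, 0⟩; ⟨0, 2⟩, ⟨0, 1⟩, ⟨1, 1⟩],
    !![⟨2, 0⟩, ⟨1, 1⟩, ⟨2, 0⟩; ⟨2, 1⟩, ⟨0, 1⟩, ⟨2, 0⟩; ⟨2, 0⟩, ⟨0, 1⟩, ⟨2, 1⟩]),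
  ((⟨0, 1⟩, ⟨0, 0⟩, ⟨2, 0⟩), !![⟨0, 0⟩, ⟨1, 2⟩, ⟨2, 2⟩; ⟨1, 1⟩, ⟨0, 1⟩, ⟨2, 0⟩; ⟨1, 1⟩, ⟨0, 2⟩, ⟨1, 0⟩],
    !![⟨2, 1⟩, ⟨0, 2⟩, ⟨1, 0⟩; ⟨1, 0⟩, ⟨1, 1⟩, ⟨2, 0⟩; ⟨2, 0⟩, ⟨0, 2⟩, ⟨1, 2⟩],
    !![⟨2, 0⟩, ⟨2, 2⟩, ⟨0, 1⟩; ⟨1, 2⟩, ⟨0, 2⟩, ⟨2, 0⟩; ⟨0, 2⟩, ⟨0, 2⟩, ⟨2, 2⟩]),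
  ((⟨0, 1⟩, ⟨0, 0⟩, ⟨0, 1⟩), !![⟨0, 1⟩, ⟨1, 0⟩, ⟨1, 2⟩; ⟨0, 1⟩, ⟨1, 0⟩, ⟨2, 1⟩; ⟨1, 1⟩, ⟨2, 1⟩, ⟨0, 0⟩],
    !![⟨1, 1⟩, ⟨1, 0⟩, ⟨0, 2⟩; ⟨0, 1⟩, ⟨1, 2⟩, ⟨0, 2⟩; ⟨1, 0⟩, ⟨0, 2⟩, ⟨2, 1⟩],
    !![⟨0, 2⟩, ⟨1, 0⟩, ⟨2, 2⟩; ⟨0, 1⟩, ⟨2, 2⟩, ⟨1, 0⟩; ⟨1, 2⟩, ⟨1, 0⟩, ⟨2, 0⟩]),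
  ((⟨0, 1⟩, ⟨0, 0⟩, ⟨0, 2⟩), !![⟨0, 1⟩, ⟨1, 0⟩, ⟨2, 2⟩; ⟨0, 1⟩, ⟨1, 0⟩, ⟨1, 1⟩; ⟨2, 1⟩, ⟨2, 2⟩, ⟨0, 0⟩],
    !![⟨1, 1⟩, ⟨1, 0⟩, ⟨2, 0⟩; ⟨0, 1⟩, ⟨1, 2⟩, ⟨2, 0⟩; ⟨0, 1⟩, ⟨1, 0⟩, ⟨2, 1⟩],
    !![⟨0, 2⟩, ⟨1, 0⟩, ⟨2, 1⟩; ⟨0, 1⟩, ⟨2, 2⟩, ⟨0, 2⟩; ⟨1, 1⟩, ⟨0, 1⟩, ⟨2, 0⟩]),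
  ((⟨1, 1⟩, ⟨1, 1⟩, ⟨2, 2⟩), !![⟨0, 0⟩, ⟨1, 2⟩, ⟨2, 1⟩; ⟨0, 0⟩, ⟨1, 1⟩, ⟨1, 1⟩; ⟨1, 0⟩, ⟨0, 0⟩, ⟨0, 0⟩],
    !![⟨2, 1⟩, ⟨2, 0⟩, ⟨2, 0⟩; ⟨1, 1⟩, ⟨0, 2⟩, ⟨0, 2⟩; ⟨0, 0⟩, ⟨1, 2⟩, ⟨2, 1⟩],
    !![⟨2, 0⟩, ⟨0, 1⟩, ⟨2, 2⟩; ⟨2, 2⟩, ⟨0, 1⟩, ⟨2, 0⟩; ⟨2, 0⟩, ⟨2, 1⟩, ⟨2, 0⟩]),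
  ((⟨1, 1⟩, ⟨2, 1⟩, ⟨1, 1⟩), !![⟨0, 0⟩, ⟨1, 2⟩, ⟨1, 1⟩; ⟨0, 0⟩, ⟨1, 1⟩, ⟨1, 2⟩; ⟨0, 1⟩, ⟨0, 0⟩, ⟨0, 0⟩],
    !![⟨2, 1⟩, ⟨2, 0⟩, ⟨0, 1⟩; ⟨1, 1⟩, ⟨0, 2⟩, ⟨2, 0⟩; ⟨0, 0⟩, ⟨1, 1⟩, ⟨2, 1⟩],
    !![⟨2, 0⟩, ⟨0, 1⟩, ⟨2, 1⟩; ⟨2, 2⟩, ⟨0, 1⟩, ⟨0, 1⟩; ⟨0, 2⟩, ⟨2, 2⟩, ⟨2, 0⟩]),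
  ((⟨1, 1⟩, ⟨1, 2⟩, ⟨1, 1⟩), !![⟨0, 0⟩, ⟨2, 1⟩, ⟨1, 1⟩; ⟨0, 0⟩, ⟨1, 1⟩, ⟨2, 1⟩; ⟨0, 1⟩, ⟨0, 0⟩, ⟨0, 0⟩],
    !![⟨2, 1⟩, ⟨1, 0⟩, ⟨0, 1⟩; ⟨2, 2⟩, ⟨0, 2⟩, ⟨1, 0⟩; ⟨0, 0⟩, ⟨2, 2⟩, ⟨2, 1⟩],
    !![⟨2, 0⟩, ⟨0, 2⟩, ⟨2, 1⟩; ⟨1, 1⟩, ⟨0, 1⟩, ⟨0, 2⟩; ⟨0, 2⟩, ⟨1, 1⟩, ⟨2, 0⟩]),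
  ((⟨1, 1⟩, ⟨2, 2⟩, ⟨2, 2⟩), !![⟨0, 0⟩, ⟨2, 1⟩, ⟨2, 1⟩; ⟨0, 0⟩, ⟨1, 1⟩, ⟨2, 2⟩; ⟨1, 0⟩, ⟨0, 0⟩, ⟨0, 0⟩],
    !![⟨2, 1⟩, ⟨1, 0⟩, ⟨2, 0⟩; ⟨2, 2⟩, ⟨0, 2⟩, ⟨0, 1⟩; ⟨0, 0⟩, ⟨2, 1⟩, ⟨2, 1⟩],
    !![⟨2, 0⟩, ⟨0, 2⟩, ⟨2, 2⟩; ⟨1, 1⟩, ⟨0, 1⟩, ⟨1, 0⟩; ⟨2, 0⟩, ⟨1, 2⟩, ⟨2, 0⟩]),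
  ((⟨2, 1⟩, ⟨1, 1⟩, ⟨2, 1⟩), !![⟨0, 0⟩, ⟨1, 2⟩, ⟨2, 2⟩; ⟨0, 0⟩, ⟨1, 2⟩, ⟨1, 1⟩; ⟨1, 0⟩, ⟨0, 0⟩, ⟨0, 0⟩],
    !![⟨2, 2⟩, ⟨0, 1⟩, ⟨2, 0⟩; ⟨1, 1⟩, ⟨0, 1⟩, ⟨2, 0⟩; ⟨0, 0⟩, ⟨1, 2⟩, ⟨2, 2⟩],
    !![⟨2, 0⟩, ⟨2, 0⟩, ⟨2, 1⟩; ⟨2, 2⟩, ⟨0, 2⟩, ⟨0, 2⟩; ⟨2, 0⟩, ⟨2, 1⟩, ⟨2, 0⟩]),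
  ((⟨2, 1⟩, ⟨2, 1⟩, ⟨1, 2⟩), !![⟨0, 0⟩, ⟨1, 2⟩, ⟨2, 1⟩; ⟨0, 0⟩, ⟨1, 2⟩, ⟨1, 2⟩; ⟨0, 1⟩, ⟨0, 0⟩, ⟨0, 0⟩],
    !![⟨2, 2⟩, ⟨0, 1⟩, ⟨0, 1⟩; ⟨1, 1⟩, ⟨0, 1⟩, ⟨0, 1⟩; ⟨0, 0⟩, ⟨1, 1⟩, ⟨2, 2⟩],
    !![⟨2, 0⟩, ⟨2, 0⟩, ⟨1, 1⟩; ⟨2, 2⟩, ⟨0, 2⟩, ⟨2, 0⟩; ⟨0, 2⟩, ⟨2, 2⟩, ⟨2, 0⟩]),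
  ((⟨2, 1⟩, ⟨1, 2⟩, ⟨1, 2⟩), !![⟨0, 0⟩, ⟨2, 1⟩, ⟨2, 1⟩; ⟨0, 0⟩, ⟨1, 2⟩, ⟨2, 1⟩; ⟨0, 1⟩, ⟨0, 0⟩, ⟨0, 0⟩],
    !![⟨2, 2⟩, ⟨0, 2⟩, ⟨0, 1⟩; ⟨2, 2⟩, ⟨0, 1⟩, ⟨0, 2⟩; ⟨0, 0⟩, ⟨2, 2⟩, ⟨2, 2⟩],
    !![⟨2, 0⟩, ⟨1, 0⟩, ⟨1, 1⟩; ⟨1, 1⟩, ⟨0, 2⟩, ⟨1, 0⟩; ⟨0, 2⟩, ⟨1, 1⟩, ⟨2, 0⟩]),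
  ((⟨2, 1⟩, ⟨2, 2⟩, ⟨2, 1⟩), !![⟨0, 0⟩, ⟨2, 1⟩, ⟨2, 2⟩; ⟨0, 0⟩, ⟨1, 2⟩, ⟨2, 2⟩; ⟨1, 0⟩, ⟨0, 0⟩, ⟨0, 0⟩],
    !![⟨2, 2⟩, ⟨0, 2⟩, ⟨2, 0⟩; ⟨2, 2⟩, ⟨0, 1⟩, ⟨1, 0⟩; ⟨0, 0⟩, ⟨2, 1⟩, ⟨2, 2⟩],
    !![⟨2, 0⟩, ⟨1, 0⟩, ⟨2, 1⟩; ⟨1, 1⟩, ⟨0, 2⟩, ⟨0, 1⟩; ⟨2, 0⟩, ⟨1, 2⟩, ⟨2, 0⟩]),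
  ((⟨0, 2⟩, ⟨0, 0⟩, ⟨1, 0⟩), !![⟨0, 0⟩, ⟨2, 2⟩, ⟨1, 1⟩; ⟨2, 1⟩, ⟨0, 2⟩, ⟨0, 2⟩; ⟨1, 1⟩, ⟨1, 0⟩, ⟨1, 0⟩],
    !![⟨2, 2⟩, ⟨0, 2⟩, ⟨0, 2⟩; ⟨2, 0⟩, ⟨1, 2⟩, ⟨0, 2⟩; ⟨0, 2⟩, ⟨1, 0⟩, ⟨1, 1⟩],
    !![⟨2, 0⟩, ⟨1, 2⟩, ⟨2, 0⟩; ⟨2, 2⟩, ⟨0, 1⟩, ⟨0, 2⟩; ⟨2, 0⟩, ⟨1, 0⟩, ⟨2, 1⟩]),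
  ((⟨0, 2⟩, ⟨0, 0⟩, ⟨2, 0⟩), !![⟨0, 0⟩, ⟨2, 2⟩, ⟨2, 2⟩; ⟨2, 1⟩, ⟨0, 1⟩, ⟨0, 2⟩; ⟨1, 1⟩, ⟨2, 0⟩, ⟨1, 0⟩],
    !![⟨2, 1⟩, ⟨2, 0⟩, ⟨1, 0⟩; ⟨0, 1⟩, ⟨1, 1⟩, ⟨0, 2⟩; ⟨2, 0⟩, ⟨2, 0⟩, ⟨1, 2⟩],
    !![⟨2, 0⟩, ⟨2, 1⟩, ⟨0, 1⟩; ⟨1, 1⟩, ⟨0, 2⟩, ⟨0, 2⟩; ⟨0, 2⟩, ⟨2, 0⟩, ⟨2, 2⟩]),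
  ((⟨0, 2⟩, ⟨0, 0⟩, ⟨0, 1⟩), !![⟨0, 1⟩, ⟨0, 1⟩, ⟨1, 2⟩; ⟨1, 0⟩, ⟨1, 0⟩, ⟨1, 1⟩; ⟨1, 1⟩, ⟨2, 2⟩, ⟨0, 0⟩],
    !![⟨1, 1⟩, ⟨0, 1⟩, ⟨0, 2⟩; ⟨1, 0⟩, ⟨1, 2⟩, ⟨2, 0⟩; ⟨1, 0⟩, ⟨1, 0⟩, ⟨2, 1⟩],
    !![⟨0, 2⟩, ⟨0, 1⟩, ⟨2, 2⟩; ⟨1, 0⟩, ⟨2, 2⟩, ⟨0, 2⟩; ⟨1, 2⟩, ⟨0, 1⟩, ⟨2, 0⟩]),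
  ((⟨0, 2⟩, ⟨0, 0⟩, ⟨0, 2⟩), !![⟨0, 1⟩, ⟨0, 1⟩, ⟨2, 2⟩; ⟨1, 0⟩, ⟨1, 0⟩, ⟨1, 2⟩; ⟨2, 1⟩, ⟨1, 2⟩, ⟨0, 0⟩],
    !![⟨1, 1⟩, ⟨0, 1⟩, ⟨2, 0⟩; ⟨1, 0⟩, ⟨1, 2⟩, ⟨0, 1⟩; ⟨0, 1⟩, ⟨0, 1⟩, ⟨2, 1⟩],
    !![⟨0, 2⟩, ⟨0, 1⟩, ⟨2, 1⟩; ⟨1, 0⟩, ⟨2, 2⟩, ⟨2, 0⟩; ⟨1, 1⟩, ⟨2, 0⟩, ⟨2, 0⟩]),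
  ((⟨1, 2⟩, ⟨1, 1⟩, ⟨1, 2⟩), !![⟨0, 0⟩, ⟨1, 1⟩, ⟨2, 1⟩; ⟨0, 0⟩, ⟨1, 2⟩, ⟨2, 2⟩; ⟨0, 1⟩, ⟨0, 0⟩, ⟨0, 0⟩],
    !![⟨2, 2⟩, ⟨2, 0⟩, ⟨0, 1⟩; ⟨1, 2⟩, ⟨0, 1⟩, ⟨1, 0⟩; ⟨0, 0⟩, ⟨2, 1⟩, ⟨2, 2⟩],
    !![⟨2, 0⟩, ⟨0, 2⟩, ⟨1, 1⟩; ⟨2, 1⟩, ⟨0, 2⟩, ⟨0, 1⟩; ⟨0, 2⟩, ⟨1, 2⟩, ⟨2, 0⟩]),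
  ((⟨1, 2⟩, ⟨2, 1⟩, ⟨2, 1⟩), !![⟨0, 0⟩, ⟨2, 2⟩, ⟨2, 2⟩; ⟨0, 0⟩, ⟨1, 2⟩, ⟨2, 1⟩; ⟨1, 0⟩, ⟨0, 0⟩, ⟨0, 0⟩],
    !![⟨2, 2⟩, ⟨1, 0⟩, ⟨2, 0⟩; ⟨2, 1⟩, ⟨0, 1⟩, ⟨0, 2⟩; ⟨0, 0⟩, ⟨2, 2⟩, ⟨2, 2⟩],
    !![⟨2, 0⟩, ⟨0, 1⟩, ⟨2, 1⟩; ⟨1, 2⟩, ⟨0, 2⟩, ⟨1, 0⟩; ⟨2, 0⟩, ⟨1, 1⟩, ⟨2, 0⟩]),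
  ((⟨1, 2⟩, ⟨1, 2⟩, ⟨2, 1⟩), !![⟨0, 0⟩, ⟨1, 1⟩, ⟨2, 2⟩; ⟨0, 0⟩, ⟨1, 2⟩, ⟨1, 2⟩; ⟨1, 0⟩, ⟨0, 0⟩, ⟨0, 0⟩],
    !![⟨2, 2⟩, ⟨2, 0⟩, ⟨2, 0⟩; ⟨1, 2⟩, ⟨0, 1⟩, ⟨0, 1⟩; ⟨0, 0⟩, ⟨1, 1⟩, ⟨2, 2⟩],
    !![⟨2, 0⟩, ⟨0, 2⟩, ⟨2, 1⟩; ⟨2, 1⟩, ⟨0, 2⟩, ⟨2, 0⟩; ⟨2, 0⟩, ⟨2, 2⟩, ⟨2, 0⟩]),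
  ((⟨1, 2⟩, ⟨2, 2⟩, ⟨1, 2⟩), !![⟨0, 0⟩, ⟨2, 2⟩, ⟨2, 1⟩; ⟨0, 0⟩, ⟨1, 2⟩, ⟨1, 1⟩; ⟨0, 1⟩, ⟨0, 0⟩, ⟨0, 0⟩],
    !![⟨2, 2⟩, ⟨1, 0⟩, ⟨0, 1⟩; ⟨2, 1⟩, ⟨0, 1⟩, ⟨2, 0⟩; ⟨0, 0⟩, ⟨1, 2⟩, ⟨2, 2⟩],
    !![⟨2, 0⟩, ⟨0, 1⟩, ⟨1, 1⟩; ⟨1, 2⟩, ⟨0, 2⟩, ⟨0, 2⟩; ⟨0, 2⟩, ⟨2, 1⟩, ⟨2, 0⟩]),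
  ((⟨2, 2⟩, ⟨1, 1⟩, ⟨1, 1⟩), !![⟨0, 0⟩, ⟨1, 1⟩, ⟨1, 1⟩; ⟨0, 0⟩, ⟨1, 1⟩, ⟨2, 2⟩; ⟨0, 1⟩, ⟨0, 0⟩, ⟨0, 0⟩],
    !![⟨2, 1⟩, ⟨0, 2⟩, ⟨0, 1⟩; ⟨1, 2⟩, ⟨0, 2⟩, ⟨0, 1⟩; ⟨0, 0⟩, ⟨2, 1⟩, ⟨2, 1⟩],
    !![⟨2, 0⟩, ⟨2, 0⟩, ⟨2, 1⟩; ⟨2, 1⟩, ⟨0, 1⟩, ⟨1, 0⟩; ⟨0, 2⟩, ⟨1, 2⟩, ⟨2, 0⟩]),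
  ((⟨2, 2⟩, ⟨2, 1⟩, ⟨2, 2⟩), !![⟨0, 0⟩, ⟨2, 2⟩, ⟨2, 1⟩; ⟨0, 0⟩, ⟨1, 1⟩, ⟨2, 1⟩; ⟨1, 0⟩, ⟨0, 0⟩, ⟨0, 0⟩],
    !![⟨2, 1⟩, ⟨0, 1⟩, ⟨2, 0⟩; ⟨2, 1⟩, ⟨0, 2⟩, ⟨1, 0⟩; ⟨0, 0⟩, ⟨2, 2⟩, ⟨2, 1⟩],
    !![⟨2, 0⟩, ⟨1, 0⟩, ⟨2, 2⟩; ⟨1, 2⟩, ⟨0, 1⟩, ⟨0, 2⟩; ⟨2, 0⟩, ⟨1, 1⟩, ⟨2, 0⟩]),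
  ((⟨2, 2⟩, ⟨1, 2⟩, ⟨2, 2⟩), !![⟨0, 0⟩, ⟨1, 1⟩, ⟨2, 1⟩; ⟨0, 0⟩, ⟨1, 1⟩, ⟨1, 2⟩; ⟨1, 0⟩, ⟨0, 0⟩, ⟨0, 0⟩],
    !![⟨2, 1⟩, ⟨0, 2⟩, ⟨2, 0⟩; ⟨1, 2⟩, ⟨0, 2⟩, ⟨2, 0⟩; ⟨0, 0⟩, ⟨1, 1⟩, ⟨2, 1⟩],
    !![⟨2, 0⟩, ⟨2, 0⟩, ⟨2, 2⟩; ⟨2, 1⟩, ⟨0, 1⟩, ⟨0, 1⟩; ⟨2, 0⟩, ⟨2, 2⟩, ⟨2, 0⟩]),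
  ((⟨2, 2⟩, ⟨2, 2⟩, ⟨1, 1⟩), !![⟨0, 0⟩, ⟨2, 2⟩, ⟨1, 1⟩; ⟨0, 0⟩, ⟨1, 1⟩, ⟨1, 1⟩; ⟨0, 1⟩, ⟨0, 0⟩, ⟨0, 0⟩],
    !![⟨2, 1⟩, ⟨0, 1⟩, ⟨0, 1⟩; ⟨2, 1⟩, ⟨0, 2⟩, ⟨0, 2⟩; ⟨0, 0⟩, ⟨1, 2⟩, ⟨2, 1⟩],
    !![⟨2, 0⟩, ⟨1, 0⟩, ⟨2, 1⟩; ⟨1, 2⟩, ⟨0, 1⟩, ⟨2, 0⟩; ⟨0, 2⟩, ⟨2, 1⟩, ⟨2, 0⟩])]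

/-- the inner involutions with eigenvector `e₀` -/
def LI : List ((K9 × K9 × K9 × K9) × M3 × M3 × M3 × M3 × M3 × M3 × M3 × M3 × M3) := [
  ((⟨1, 0⟩, ⟨2, 0⟩, ⟨0, 0⟩, ⟨2, 0⟩), !![⟨1, 0⟩, ⟨1, 0⟩, ⟨1, 2⟩; ⟨1, 0⟩, ⟨1, 0⟩, ⟨2, 1⟩; ⟨1, 1⟩, ⟨2, 2⟩, ⟨0, 0⟩],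
    !![⟨1, 1⟩, ⟨0, 0⟩, ⟨2, 1⟩; ⟨0, 0⟩, ⟨1, 0⟩, ⟨0, 0⟩; ⟨1, 1⟩, ⟨0, 0⟩, ⟨1, 2⟩],
    !![⟨1, 0⟩, ⟨2, 0⟩, ⟨2, 1⟩; ⟨2, 0⟩, ⟨1, 0⟩, ⟨2, 1⟩; ⟨2, 2⟩, ⟨2, 2⟩, ⟨0, 0⟩],
    !![⟨0, 0⟩, ⟨0, 0⟩, ⟨1, 0⟩; ⟨0, 0⟩, ⟨2, 0⟩, ⟨0, 0⟩; ⟨1, 0⟩, ⟨0, 0⟩, ⟨0, 0⟩],
    !![⟨1, 0⟩, ⟨2, 0⟩, ⟨2, 1⟩; ⟨1, 0⟩, ⟨2, 0⟩, ⟨1, 2⟩; ⟨1, 1⟩, ⟨1, 1⟩, ⟨0, 0⟩],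
    !![⟨2, 1⟩, ⟨1, 0⟩, ⟨1, 0⟩; ⟨2, 1⟩, ⟨2, 0⟩, ⟨2, 0⟩; ⟨0, 0⟩, ⟨1, 1⟩, ⟨2, 2⟩],
    !![⟨2, 1⟩, ⟨1, 0⟩, ⟨1, 0⟩; ⟨1, 2⟩, ⟨1, 0⟩, ⟨1, 0⟩; ⟨0, 0⟩, ⟨2, 2⟩, ⟨1, 1⟩],
    !![⟨1, 0⟩, ⟨2, 0⟩, ⟨1, 2⟩; ⟨1, 1⟩, ⟨1, 1⟩, ⟨0, 0⟩; ⟨1, 0⟩, ⟨2, 0⟩, ⟨2, 1⟩],
    !![⟨1, 1⟩, ⟨0, 0⟩, ⟨1, 1⟩; ⟨1, 0⟩, ⟨2, 1⟩, ⟨2, 0⟩; ⟨2, 0⟩, ⟨2, 1⟩, ⟨1, 0⟩]),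
  ((⟨2, 0⟩, ⟨0, 0⟩, ⟨1, 0⟩, ⟨0, 0⟩), !![⟨0, 0⟩, ⟨0, 0⟩, ⟨2, 0⟩; ⟨0, 0⟩, ⟨1, 0⟩, ⟨0, 0⟩; ⟨1, 0⟩, ⟨0, 0⟩, ⟨0, 0⟩],
    !![⟨0, 0⟩, ⟨0, 0⟩, ⟨2, 0⟩; ⟨1, 1⟩, ⟨2, 1⟩, ⟨0, 0⟩; ⟨2, 2⟩, ⟨2, 1⟩, ⟨0, 0⟩],
    !![⟨0, 0⟩, ⟨2, 0⟩, ⟨0, 0⟩; ⟨2, 0⟩, ⟨0, 0⟩, ⟨0, 0⟩; ⟨0, 0⟩, ⟨0, 0⟩, ⟨2, 0⟩],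
    !![⟨0, 0⟩, ⟨1, 1⟩, ⟨1, 1⟩; ⟨1, 2⟩, ⟨1, 0⟩, ⟨2, 0⟩; ⟨1, 2⟩, ⟨2, 0⟩, ⟨1, 0⟩],
    !![⟨0, 0⟩, ⟨1, 0⟩, ⟨0, 0⟩; ⟨0, 0⟩, ⟨0, 0⟩, ⟨2, 0⟩; ⟨2, 0⟩, ⟨0, 0⟩, ⟨0, 0⟩],
    !![⟨2, 1⟩, ⟨2, 0⟩, ⟨1, 0⟩; ⟨0, 0⟩, ⟨2, 2⟩, ⟨2, 2⟩; ⟨2, 1⟩, ⟨1, 0⟩, ⟨2, 0⟩],
    !![⟨1, 2⟩, ⟨1, 0⟩, ⟨2, 0⟩; ⟨2, 1⟩, ⟨1, 0⟩, ⟨2, 0⟩; ⟨0, 0⟩, ⟨2, 2⟩, ⟨2, 2⟩],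
    !![⟨2, 2⟩, ⟨0, 0⟩, ⟨2, 2⟩; ⟨2, 0⟩, ⟨1, 2⟩, ⟨1, 0⟩; ⟨2, 0⟩, ⟨2, 1⟩, ⟨1, 0⟩],
    !![⟨1, 0⟩, ⟨2, 0⟩, ⟨2, 1⟩; ⟨2, 2⟩, ⟨2, 2⟩, ⟨0, 0⟩; ⟨1, 0⟩, ⟨2, 0⟩, ⟨1, 2⟩]),
  ((⟨2, 0⟩, ⟨0, 0⟩, ⟨2, 0⟩, ⟨0, 0⟩), !![⟨0, 0⟩, ⟨0, 0⟩, ⟨2, 0⟩; ⟨0, 0⟩, ⟨1, 0⟩, ⟨0, 0⟩; ⟨1, 0⟩, ⟨0, 0⟩, ⟨0, 0⟩],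
    !![⟨0, 0⟩, ⟨0, 0⟩, ⟨0, 1⟩; ⟨1, 1⟩, ⟨1, 1⟩, ⟨0, 0⟩; ⟨1, 1⟩, ⟨2, 2⟩, ⟨0, 0⟩],
    !![⟨0, 0⟩, ⟨1, 0⟩, ⟨0, 0⟩; ⟨1, 0⟩, ⟨0, 0⟩, ⟨0, 0⟩; ⟨0, 0⟩, ⟨0, 0⟩, ⟨2, 0⟩],
    !![⟨0, 0⟩, ⟨2, 2⟩, ⟨1, 1⟩; ⟨2, 1⟩, ⟨1, 0⟩, ⟨1, 0⟩; ⟨1, 2⟩, ⟨1, 0⟩, ⟨1, 0⟩],
    !![⟨0, 0⟩, ⟨2, 0⟩, ⟨0, 0⟩; ⟨0, 0⟩, ⟨0, 0⟩, ⟨1, 0⟩; ⟨2, 0⟩, ⟨0, 0⟩, ⟨0, 0⟩],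
    !![⟨2, 1⟩, ⟨1, 0⟩, ⟨1, 0⟩; ⟨0, 0⟩, ⟨2, 2⟩, ⟨1, 1⟩; ⟨2, 1⟩, ⟨2, 0⟩, ⟨2, 0⟩],
    !![⟨1, 2⟩, ⟨2, 0⟩, ⟨2, 0⟩; ⟨1, 2⟩, ⟨1, 0⟩, ⟨1, 0⟩; ⟨0, 0⟩, ⟨1, 1⟩, ⟨2, 2⟩],
    !![⟨2, 2⟩, ⟨0, 0⟩, ⟨2, 2⟩; ⟨1, 0⟩, ⟨1, 2⟩, ⟨2, 0⟩; ⟨2, 0⟩, ⟨1, 2⟩, ⟨1, 0⟩],
    !![⟨1, 0⟩, ⟨1, 0⟩, ⟨2, 1⟩; ⟨1, 1⟩, ⟨2, 2⟩, ⟨0, 0⟩; ⟨1, 0⟩, ⟨1, 0⟩, ⟨1, 2⟩]),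
  ((⟨2, 0⟩, ⟨0, 0⟩, ⟨0, 1⟩, ⟨0, 0⟩), !![⟨0, 0⟩, ⟨0, 0⟩, ⟨2, 0⟩; ⟨0, 0⟩, ⟨1, 0⟩, ⟨0, 0⟩; ⟨1, 0⟩, ⟨0, 0⟩, ⟨0, 0⟩],
    !![⟨0, 0⟩, ⟨0, 0⟩, ⟨1, 0⟩; ⟨1, 1⟩, ⟨1, 1⟩, ⟨0, 0⟩; ⟨2, 1⟩, ⟨1, 2⟩, ⟨0, 0⟩],
    !![⟨0, 0⟩, ⟨0, 1⟩, ⟨0, 0⟩; ⟨0, 2⟩, ⟨0, 0⟩, ⟨0, 0⟩; ⟨0, 0⟩, ⟨0, 0⟩, ⟨2, 0⟩],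
    !![⟨0, 0⟩, ⟨2, 2⟩, ⟨1, 2⟩; ⟨2, 1⟩, ⟨1, 0⟩, ⟨0, 2⟩; ⟨1, 1⟩, ⟨0, 1⟩, ⟨1, 0⟩],
    !![⟨0, 0⟩, ⟨0, 2⟩, ⟨0, 0⟩; ⟨0, 0⟩, ⟨0, 0⟩, ⟨0, 2⟩; ⟨2, 0⟩, ⟨0, 0⟩, ⟨0, 0⟩],
    !![⟨2, 2⟩, ⟨0, 1⟩, ⟨1, 0⟩; ⟨0, 0⟩, ⟨2, 1⟩, ⟨2, 2⟩; ⟨2, 2⟩, ⟨0, 2⟩, ⟨2, 0⟩],
    !![⟨1, 1⟩, ⟨0, 2⟩, ⟨2, 0⟩; ⟨1, 2⟩, ⟨1, 0⟩, ⟨0, 2⟩; ⟨0, 0⟩, ⟨1, 1⟩, ⟨2, 1⟩],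
    !![⟨2, 1⟩, ⟨0, 0⟩, ⟨2, 1⟩; ⟨0, 2⟩, ⟨1, 1⟩, ⟨0, 1⟩; ⟨2, 0⟩, ⟨2, 1⟩, ⟨1, 0⟩],
    !![⟨1, 0⟩, ⟨0, 1⟩, ⟨2, 2⟩; ⟨2, 2⟩, ⟨2, 1⟩, ⟨0, 0⟩; ⟨1, 0⟩, ⟨0, 1⟩, ⟨1, 1⟩]),
  ((⟨2, 0⟩, ⟨0, 0⟩, ⟨0, 2⟩, ⟨0, 0⟩), !![⟨0, 0⟩, ⟨0, 0⟩, ⟨2, 0⟩; ⟨0, 0⟩, ⟨1, 0⟩, ⟨0, 0⟩; ⟨1, 0⟩, ⟨0, 0⟩, ⟨0, 0⟩],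
    !![⟨0, 0⟩, ⟨0, 0⟩, ⟨0, 1⟩; ⟨1, 1⟩, ⟨2, 1⟩, ⟨0, 0⟩; ⟨1, 2⟩, ⟨2, 2⟩, ⟨0, 0⟩],
    !![⟨0, 0⟩, ⟨0, 2⟩, ⟨0, 0⟩; ⟨0, 1⟩, ⟨0, 0⟩, ⟨0, 0⟩; ⟨0, 0⟩, ⟨0, 0⟩, ⟨2, 0⟩],
    !![⟨0, 0⟩, ⟨1, 1⟩, ⟨1, 2⟩; ⟨1, 2⟩, ⟨1, 0⟩, ⟨0, 1⟩; ⟨1, 1⟩, ⟨0, 2⟩, ⟨1, 0⟩],
    !![⟨0, 0⟩, ⟨0, 1⟩, ⟨0, 0⟩; ⟨0, 0⟩, ⟨0, 0⟩, ⟨0, 1⟩; ⟨2, 0⟩, ⟨0, 0⟩, ⟨0, 0⟩],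
    !![⟨2, 2⟩, ⟨0, 2⟩, ⟨1, 0⟩; ⟨0, 0⟩, ⟨2, 1⟩, ⟨1, 1⟩; ⟨2, 2⟩, ⟨0, 1⟩, ⟨2, 0⟩],
    !![⟨1, 1⟩, ⟨0, 1⟩, ⟨2, 0⟩; ⟨2, 1⟩, ⟨1, 0⟩, ⟨0, 1⟩; ⟨0, 0⟩, ⟨2, 2⟩, ⟨2, 1⟩],
    !![⟨2, 1⟩, ⟨0, 0⟩, ⟨2, 1⟩; ⟨0, 1⟩, ⟨1, 1⟩, ⟨0, 2⟩; ⟨2, 0⟩, ⟨1, 2⟩, ⟨1, 0⟩],
    !![⟨1, 0⟩, ⟨0, 2⟩, ⟨2, 2⟩; ⟨1, 1⟩, ⟨2, 1⟩, ⟨0, 0⟩; ⟨1, 0⟩, ⟨0, 2⟩, ⟨1, 1⟩]),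
  ((⟨2, 0⟩, ⟨1, 0⟩, ⟨0, 0⟩, ⟨2, 0⟩), !![⟨0, 0⟩, ⟨1, 1⟩, ⟨1, 2⟩; ⟨1, 1⟩, ⟨1, 0⟩, ⟨0, 1⟩; ⟨1, 1⟩, ⟨2, 0⟩, ⟨0, 2⟩],
    !![⟨0, 0⟩, ⟨1, 1⟩, ⟨2, 1⟩; ⟨0, 0⟩, ⟨1, 1⟩, ⟨1, 2⟩; ⟨1, 0⟩, ⟨0, 0⟩, ⟨0, 0⟩],
    !![⟨0, 0⟩, ⟨2, 2⟩, ⟨1, 1⟩; ⟨2, 1⟩, ⟨1, 0⟩, ⟨1, 0⟩; ⟨1, 2⟩, ⟨1, 0⟩, ⟨1, 0⟩],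
    !![⟨0, 0⟩, ⟨1, 0⟩, ⟨0, 0⟩; ⟨1, 0⟩, ⟨0, 0⟩, ⟨0, 0⟩; ⟨0, 0⟩, ⟨0, 0⟩, ⟨2, 0⟩],
    !![⟨0, 0⟩, ⟨1, 1⟩, ⟨2, 2⟩; ⟨2, 1⟩, ⟨1, 0⟩, ⟨1, 0⟩; ⟨2, 1⟩, ⟨2, 0⟩, ⟨2, 0⟩],
    !![⟨2, 2⟩, ⟨0, 0⟩, ⟨2, 2⟩; ⟨1, 0⟩, ⟨2, 1⟩, ⟨2, 0⟩; ⟨1, 0⟩, ⟨1, 2⟩, ⟨2, 0⟩],
    !![⟨1, 1⟩, ⟨0, 0⟩, ⟨1, 1⟩; ⟨1, 0⟩, ⟨2, 1⟩, ⟨2, 0⟩; ⟨2, 0⟩, ⟨2, 1⟩, ⟨1, 0⟩],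
    !![⟨2, 1⟩, ⟨1, 0⟩, ⟨1, 0⟩; ⟨1, 2⟩, ⟨1, 0⟩, ⟨1, 0⟩; ⟨0, 0⟩, ⟨2, 2⟩, ⟨1, 1⟩],
    !![⟨1, 0⟩, ⟨2, 0⟩, ⟨1, 2⟩; ⟨1, 1⟩, ⟨1, 1⟩, ⟨0, 0⟩; ⟨1, 0⟩, ⟨2, 0⟩, ⟨2, 1⟩]),
  ((⟨2, 0⟩, ⟨2, 0⟩, ⟨0, 0⟩, ⟨1, 0⟩), !![⟨0, 0⟩, ⟨1, 1⟩, ⟨1, 2⟩; ⟨1, 1⟩, ⟨1, 0⟩, ⟨0, 1⟩; ⟨1, 1⟩, ⟨2, 0⟩, ⟨0, 2⟩],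
    !![⟨0, 0⟩, ⟨1, 1⟩, ⟨2, 2⟩; ⟨1, 0⟩, ⟨0, 0⟩, ⟨0, 0⟩; ⟨0, 0⟩, ⟨2, 1⟩, ⟨2, 1⟩],
    !![⟨0, 0⟩, ⟨1, 1⟩, ⟨2, 2⟩; ⟨1, 2⟩, ⟨1, 0⟩, ⟨1, 0⟩; ⟨2, 1⟩, ⟨1, 0⟩, ⟨1, 0⟩],
    !![⟨0, 0⟩, ⟨0, 0⟩, ⟨0, 1⟩; ⟨0, 0⟩, ⟨2, 0⟩, ⟨0, 0⟩; ⟨0, 2⟩, ⟨0, 0⟩, ⟨0, 0⟩],
    !![⟨0, 0⟩, ⟨2, 2⟩, ⟨1, 1⟩; ⟨2, 1⟩, ⟨2, 0⟩, ⟨2, 0⟩; ⟨2, 1⟩, ⟨1, 0⟩, ⟨1, 0⟩],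
    !![⟨2, 1⟩, ⟨2, 2⟩, ⟨0, 0⟩; ⟨0, 2⟩, ⟨2, 0⟩, ⟨1, 1⟩; ⟨0, 2⟩, ⟨2, 0⟩, ⟨2, 2⟩],
    !![⟨1, 2⟩, ⟨1, 1⟩, ⟨0, 0⟩; ⟨0, 1⟩, ⟨1, 0⟩, ⟨2, 2⟩; ⟨0, 2⟩, ⟨2, 0⟩, ⟨2, 2⟩],
    !![⟨2, 2⟩, ⟨0, 1⟩, ⟨0, 1⟩; ⟨0, 0⟩, ⟨1, 2⟩, ⟨2, 1⟩; ⟨1, 2⟩, ⟨1, 0⟩, ⟨1, 0⟩],
    !![⟨1, 0⟩, ⟨2, 1⟩, ⟨0, 2⟩; ⟨0, 2⟩, ⟨2, 2⟩, ⟨2, 0⟩; ⟨2, 2⟩, ⟨0, 0⟩, ⟨1, 2⟩])]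

/-- the conditions on the entries of `LO` -/
def OutOK (p : (K9 × K9 × K9) × M3 × M3 × M3) : Prop :=
  IsGood p.2.1 ∧ p.2.1 * p.2.1 = p.2.2.1 ∧ p.2.2.1 * p.2.2.1 = p.2.2.2 ∧ p.2.2.2 * p.2.2.1 * p.2.1 = 1 ∧
    p.2.1 0 1 ≠ 0 ∧ p.2.1 * mA p.1 * p.2.1.map cj = mA p.1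

instance (p : (K9 × K9 × K9) × M3 × M3 × M3) : Decidable (OutOK p) := by
  unfold OutOK; infer_instance

theorem outer_ok : ∀ p ∈ LO, OutOK p := by decide +kernel

/-- the conditions on `a, b, d` -/
def ValO (a b d : K9) : Prop := a * cj a + b * cj b = 1 ∧ b * cj b + d * cj d = 1 ∧ a * cj b + b * cj d = 0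

instance (a b d : K9) : Decidable (ValO a b d) := by
  unfold ValO; infer_instance

theorem outer_cover' : ∀ r s r' s' r'' s'' : ZMod 3, ValO ⟨r, s⟩ ⟨r', s'⟩ ⟨r'', s''⟩ →
    ∃ p ∈ LO, p.1 = (⟨r, s⟩, ⟨r', s'⟩, ⟨r'', s''⟩) := by decide +kernel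

theorem outer_cover (a b d : K9) (h : ValO a b d) : ∃ p ∈ LO, p.1 = (a, b, d) := by
  obtain ⟨r, s⟩ := a
  obtain ⟨r', s'⟩ := b
  obtain ⟨r'', s''⟩ := d
  exact outer_cover' r s r' s' r'' s'' h

/-- the conditions on the entries of `LI` : `P, Q, Y, W, U, V, T, T², T⁴` -/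
def InnOK (p : (K9 × K9 × K9 × K9) × M3 × M3 × M3 × M3 × M3 × M3 × M3 × M3 × M3) : Prop :=
  match p with
  | (t, P, Q, Y, W, U, V, T, T2, T4) =>
    IsGood P ∧ IsGood Q ∧ P * mX t = Y * P ∧ Q * mX t = W * Q ∧ mX t * Y = U ∧ U * U * U = 1 ∧ Y * W = V ∧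
      V * V * V = 1 ∧ U * W = T ∧ T * T = T2 ∧ T2 * T2 = T4 ∧ T4 * T2 * T = 1

instance (p : (K9 × K9 × K9 × K9) × M3 × M3 × M3 × M3 × M3 × M3 × M3 × M3 × M3) : Decidable (InnOK p) := by
  unfold InnOK; infer_instance

theorem inner_ok : ∀ p ∈ LI, InnOK p := by decide +kernel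

/-- the conditions on `c, a, b, d` -/
def ValI (c a b d : K9) : Prop := c * c = 1 ∧ a * a + b * cj b = 1 ∧ cj b * b + d * d = 1 ∧ a * b + b * d = 0 ∧
  c * (a * d - b * cj b) = 1 ∧ mX (c, a, b, d) ≠ 1

instance (c a b d : K9) : Decidable (ValI c a b d) := by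
  unfold ValI; infer_instance

theorem inner_cover' : ∀ r r' r'' s s' : ZMod 3, ValI ⟨r, 0⟩ ⟨r', 0⟩ ⟨s, s'⟩ ⟨r'', 0⟩ →
    ∃ p ∈ LI, p.1 = (⟨r, 0⟩, ⟨r', 0⟩, ⟨s, s'⟩, ⟨r'', 0⟩) := by decide +kernel

theorem real_of_cj : ∀ r s : ZMod 3, cj ⟨r, s⟩ = ⟨r, s⟩ → s = 0 := by decide +kernel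

theorem inner_cover (c a b d : K9) (hc : cj c = c) (ha : cj a = a) (hd : cj d = d) (h : ValI c a b d) :
    ∃ p ∈ LI, p.1 = (c, a, b, d) := by
  obtain ⟨r, s⟩ := c
  obtain ⟨r', s'⟩ := a
  obtain ⟨t, t'⟩ := b
  obtain ⟨r'', s''⟩ := d
  obtain rfl := real_of_cj _ _ hc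
  obtain rfl := real_of_cj _ _ ha
  obtain rfl := real_of_cj _ _ hd
  exact inner_cover' r r' r'' t t' h

end Cfsg.Agent.H724.RowPsu.Nine
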