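import Mathlib
import Cfsg.Agent.H369.PglSit
import Cfsg.Agent.H244.A8.OutTop
import Cfsg.Agent.S2466
import Cfsg.Agent.S2467

/-!
# S3447 (recognition of `PGL_2(q)` by spectrum): the row `A_n`, `n ≥ 7` (task 591)
-/

set_option autoImplicit false

namespace Cfsg.Agent.H724.PglAlt

open Cfsg.Agent.H369.Pgl Equiv

/-! ### orders of permutations of small degree -/

theorem cube_le (a : ℕ) : a ^ 3 ≤ 3 ^ a := by
  rcases Nat.lt_or_ge a 4 with h | h
  · interval_cases a <;> norm_num
  · induction a, h using Nat.le_induction with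
    | base => norm_num
    | succ n hn ih =>
      have h1 : (n + 1) ^ 3 ≤ 3 * n ^ 3 := by nlinarith [mul_self_nonneg (n - 4 : ℤ), Nat.zero_le n, mul_le_mul hn hn (by norm_num) (by omega)]
      calc (n + 1) ^ 3 ≤ 3 * n ^ 3 := h1
        _ ≤ 3 * 3 ^ n := Nat.mul_le_mul_left 3 ih
        _ = 3 ^ (n + 1) := by ring

theorem prod_cube_le (s : Multiset ℕ) : s.prod ^ 3 ≤ 3 ^ s.sum := by
  induction s using Multiset.induction_on with
  | empty => simp
  | cons a s ih =>
    rw [Multiset.prod_cons, Multiset.sum_cons, mul_pow, pow_add]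
    exact Nat.mul_le_mul (cube_le a) ih

theorem orderOf_lt {n : ℕ} (hn : n ≤ 8) (σ : Perm (Fin n)) : orderOf σ < 19 := by
  have h1 : orderOf σ ∣ σ.cycleType.prod := by
    rw [← Perm.lcm_cycleType]
    exact Multiset.lcm_dvd.2 fun a ha => Multiset.dvd_prod ha
  have h2 : σ.cycleType.sum ≤ 8 := by
    rw [Perm.sum_cycleType]
    have := Finset.card_le_univ σ.support
    rw [Fintype.card_fin] at this
    omega
  have h0 : 0 < σ.cycleType.prod := by
    apply Nat.pos_of_ne_zero
    intro h
    rw [Multiset.prod_eq_zero_iff] at h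
    have := Perm.two_le_of_mem_cycleType h
    omega
  have h3 := Nat.le_of_dvd h0 h1
  have h4 := prod_cube_le σ.cycleType
  have h5 : 3 ^ σ.cycleType.sum ≤ 3 ^ 8 := Nat.pow_le_pow_right (by norm_num) h2
  by_contra hcon
  push Not at hcon
  have h6 : 19 ^ 3 ≤ (σ.cycleType.prod) ^ 3 := Nat.pow_le_pow_left (by omega) 3
  norm_num at h5 h6
  omega

theorem orderOf_aut_lt {n : ℕ} (hn7 : 7 ≤ n) (hn : n ≤ 8) (x : MulAut (alternatingGroup (Fin n))) : orderOf x < 19 := by
  obtain ⟨m, rfl⟩ : ∃ m, n = m + 2 := ⟨n - 2, by omega⟩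
  obtain ⟨σ, hσ⟩ := StandardComponent.AltAut.exists_conj (m := m) (by omega) x
  have hpow : ∀ k : ℕ, ∀ a : alternatingGroup (Fin (m + 2)), ((x ^ k) a : Perm (Fin (m + 2))) = σ ^ k * a * (σ ^ k)⁻¹ := by
    intro k
    induction k with
    | zero => intro a; simp
    | succ k ih =>
      intro a
      rw [pow_succ', MulAut.mul_apply, hσ, ih, pow_succ']
      group
  have h1 : x ^ orderOf σ = 1 := by
    apply MulEquiv.ext
    intro a
    apply Subtype.ext
    rw [hpow, pow_orderOf_eq_one]
    simp
  have h2 := Nat.le_of_dvd (orderOf_pos σ) (orderOf_dvd_of_pow_eq_one h1)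
  exact lt_of_le_of_lt h2 (orderOf_lt hn σ)

/-! ### elements of `A_9` in `A_n` -/

/-- `A_9 → A_n` -/
noncomputable def emb {n : ℕ} (hn : 9 ≤ n) : alternatingGroup (Fin 9) →* alternatingGroup (Fin n) := by
  classical
  exact ((Perm.extendDomainHom (Equiv.ofInjective (Fin.castLE hn) (Fin.castLE_injective hn))).comp
    (alternatingGroup (Fin 9)).subtype).codRestrict (alternatingGroup (Fin n)) (by
      intro x
      rw [Perm.mem_alternatingGroup]
      change Perm.sign (Perm.extendDomain (x : Perm (Fin 9)) _) = 1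
      rw [Perm.sign_extendDomain]
      exact x.2)

theorem emb_injective {n : ℕ} (hn : 9 ≤ n) : Function.Injective (emb hn) := by
  classical
  intro x y h
  have h1 := congrArg Subtype.val h
  exact Subtype.ext (Perm.extendDomainHom_injective _ h1)

def c12 : Perm (Fin 9) := ⟨![1, 2, 3, 0, 5, 6, 4, 8, 7], ![3, 0, 1, 2, 6, 4, 5, 8, 7], by decide, by decide⟩

def ca : Perm (Fin 9) := ⟨![1, 2, 0, 3, 4, 5, 6, 7, 8], ![2, 0, 1, 3, 4, 5, 6, 7, 8], by decide, by decide⟩

def cb : Perm (Fin 9) := ⟨![0, 1, 2, 4, 5, 3, 6, 7, 8], ![0, 1, 2, 5, 3, 4, 6, 7, 8], by decide, by decide⟩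

def a12 : alternatingGroup (Fin 9) := ⟨c12, by rw [Perm.mem_alternatingGroup]; decide +kernel⟩
def aa : alternatingGroup (Fin 9) := ⟨ca, by rw [Perm.mem_alternatingGroup]; decide +kernel⟩
def ab : alternatingGroup (Fin 9) := ⟨cb, by rw [Perm.mem_alternatingGroup]; decide +kernel⟩

theorem orderOf_a12 : orderOf a12 = 12 := by
  have h1 : c12 ^ 12 = 1 := by decide +kernel
  have h2 : c12 ^ 6 ≠ 1 := by decide +kernel
  have h3 : c12 ^ 4 ≠ 1 := by decide +kernel
  have h0 : orderOf a12 = orderOf c12 := Subgroup.orderOf_coe a12 |>.symm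
  rw [h0]
  have hd := orderOf_dvd_of_pow_eq_one h1
  have h4 : ¬ orderOf c12 ∣ 6 := fun h => h2 (orderOf_dvd_iff_pow_eq_one.1 h)
  have h5 : ¬ orderOf c12 ∣ 4 := fun h => h3 (orderOf_dvd_iff_pow_eq_one.1 h)
  have h6 : orderOf c12 ≤ 12 := Nat.le_of_dvd (by norm_num) hd
  interval_cases h7 : orderOf c12 <;> simp_all

theorem not_cyclic {S : Type*} [Group S] [Finite S] {a b : S} (ha : a ^ 3 = 1) (hb : b ^ 3 = 1) (hab : a * b = b * a)
    (ha1 : a ≠ 1) (hb1 : b ≠ 1) (hne : b ≠ a) (hne2 : b ≠ a ^ 2) : ∃ P : Sylow 3 S, ¬ IsCyclic P := by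
  have hc : Commute a b := hab
  have hx3 : ∀ i j : ℕ, (a ^ i * b ^ j) ^ 3 = 1 := by
    intro i j
    rw [(hc.pow_pow i j).mul_pow, ← pow_mul, ← pow_mul, mul_comm i, mul_comm j, pow_mul, pow_mul, ha, hb, one_pow,
      one_pow, one_mul]
  have hmul : ∀ i j k l : ℕ, a ^ i * b ^ j * (a ^ k * b ^ l) = a ^ (i + k) * b ^ (j + l) := by
    intro i j k l
    rw [pow_add, pow_add]
    calc a ^ i * b ^ j * (a ^ k * b ^ l) = a ^ i * (b ^ j * a ^ k) * b ^ l := by group
      _ = a ^ i * (a ^ k * b ^ j) * b ^ l := by rw [((hc.pow_pow k j).eq)]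
      _ = _ := by group
  let Q : Subgroup S :=
    { carrier := {x | ∃ i j : ℕ, x = a ^ i * b ^ j}
      mul_mem' := by
        rintro _ _ ⟨i, j, rfl⟩ ⟨k, l, rfl⟩
        exact ⟨i + k, j + l, hmul i j k l⟩
      one_mem' := ⟨0, 0, by simp⟩
      inv_mem' := by
        rintro _ ⟨i, j, rfl⟩
        refine ⟨i + i, j + j, ?_⟩
        rw [← hmul]
        rw [inv_eq_iff_mul_eq_one, ← pow_two, ← pow_succ', hx3] }
  have hQ : IsPGroup 3 Q := by
    rintro ⟨x, i, j, rfl⟩
    exact ⟨1, Subtype.ext (by rw [pow_one]; exact hx3 i j)⟩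
  obtain ⟨P, hP⟩ := hQ.exists_le_sylow
  refine ⟨P, fun hcyc => ?_⟩
  have haP : a ∈ P := hP ⟨1, 0, by simp⟩
  have hbP : b ∈ P := hP ⟨0, 1, by simp⟩
  classical
  have hfin : Fintype P := Fintype.ofFinite _
  have h1 := IsCyclic.card_pow_eq_one_le (α := P) (n := 3) (by norm_num)
  have h2 : ({1, ⟨a, haP⟩, ⟨a ^ 2, P.pow_mem haP 2⟩, ⟨b, hbP⟩} : Finset P) ⊆ Finset.univ.filter fun x => x ^ 3 = 1 := by
    intro x hx
    simp only [Finset.mem_insert, Finset.mem_singleton] at hx
    rw [Finset.mem_filter]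
    refine ⟨Finset.mem_univ _, ?_⟩
    rcases hx with rfl | rfl | rfl | rfl
    · exact one_pow 3
    · exact Subtype.ext ha
    · apply Subtype.ext
      change (a ^ 2) ^ 3 = 1
      rw [← pow_mul, mul_comm, pow_mul, ha, one_pow]
    · exact Subtype.ext hb
  have h3 := Finset.card_le_card h2
  have ha2 : a ^ 2 ≠ 1 := by
    intro h
    apply ha1
    have : a ^ 3 = a ^ 2 * a := pow_succ a 2
    rw [ha, h, one_mul] at this
    exact this.symm
  have ha3 : a ≠ a ^ 2 := by
    intro h
    apply ha1
    have h4 : a * 1 = a * a := by rw [mul_one, ← pow_two]; exact h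
    exact (mul_left_cancel h4).symm
  have h4 : ({1, ⟨a, haP⟩, ⟨a ^ 2, P.pow_mem haP 2⟩, ⟨b, hbP⟩} : Finset P).card = 4 := by
    rw [Finset.card_insert_of_notMem, Finset.card_insert_of_notMem, Finset.card_insert_of_notMem, Finset.card_singleton]
    · rw [Finset.mem_singleton]
      exact fun h => hne2 (congrArg Subtype.val h).symm
    · simp only [Finset.mem_insert, Finset.mem_singleton]
      rintro (h | h)
      · exact ha3 (congrArg Subtype.val h)
      · exact hne (congrArg Subtype.val h).symm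
    · simp only [Finset.mem_insert, Finset.mem_singleton]
      rintro (h | h | h)
      · exact ha1 (congrArg Subtype.val h).symm
      · exact ha2 (congrArg Subtype.val h).symm
      · exact hb1 (congrArg Subtype.val h).symm
  omega

theorem alt_twelve {n : ℕ} (hn : 9 ≤ n) : ∃ g : alternatingGroup (Fin n), 12 ∣ orderOf g :=
  ⟨emb hn a12, by rw [orderOf_injective (emb hn) (emb_injective hn), orderOf_a12]⟩

theorem alt_three {n : ℕ} (hn : 9 ≤ n) : ∃ P : Sylow 3 (alternatingGroup (Fin n)), ¬ IsCyclic P := by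
  have hi := emb_injective hn
  have k1 : aa ^ 3 = 1 := Subtype.ext (by change ca ^ 3 = 1; decide +kernel)
  have k2 : ab ^ 3 = 1 := Subtype.ext (by change cb ^ 3 = 1; decide +kernel)
  have k3 : aa * ab = ab * aa := Subtype.ext (by change ca * cb = cb * ca; decide +kernel)
  have k4 : aa ≠ 1 := fun h => absurd (congrArg Subtype.val h) (by change ca ≠ 1; decide +kernel)
  have k5 : ab ≠ 1 := fun h => absurd (congrArg Subtype.val h) (by change cb ≠ 1; decide +kernel)
  have k6 : ab ≠ aa := fun h => absurd (congrArg Subtype.val h) (by change cb ≠ ca; decide +kernel)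
  have k7 : ab ≠ aa ^ 2 := fun h => absurd (congrArg Subtype.val h) (by change cb ≠ ca ^ 2; decide +kernel)
  refine not_cyclic (a := emb hn aa) (b := emb hn ab) ?_ ?_ ?_ ?_ ?_ ?_ ?_
  · rw [← map_pow, k1, map_one]
  · rw [← map_pow, k2, map_one]
  · rw [← map_mul, k3, map_mul]
  · exact fun h => k4 (hi (h.trans (map_one _).symm))
  · exact fun h => k5 (hi (h.trans (map_one _).symm))
  · exact fun h => k6 (hi h)
  · exact fun h => k7 (hi (h.trans (map_pow _ _ _).symm))

/-- `3` is adjacent to the primes `≤ n - 3` -/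
theorem adj_three {n t : ℕ} (ht : t.Prime) (h2 : t ≠ 2) (h3 : t ≠ 3) (htn : t + 3 ≤ n) :
    ∃ g : alternatingGroup (Fin n), t * 3 ∣ orderOf g ∨ t * 4 ∣ orderOf g := by
  obtain ⟨g, hg⟩ := (Cfsg.Agent.S2466.result n t 3 ht Nat.prime_three h2 (by norm_num) h3 (by omega) (by omega)).2 htn
  exact ⟨g, Or.inl (by rw [hg])⟩

theorem prime_dvd_factorial_le {n t : ℕ} (ht : t.Prime) (h : t ∣ n.factorial) : t ≤ n := (ht.dvd_factorial).1 h

/-- the row, for the model -/
theorem row {n : ℕ} (hn : 7 ≤ n) {p m : ℕ} {X : Subgroup (MulAut (alternatingGroup (Fin n)))}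
    (H : Sit (alternatingGroup (Fin n)) p m X) : False := by
  have hs : IsSimpleGroup (alternatingGroup (Fin n)) := alternatingGroup.isSimpleGroup (by simp; omega)
  have hnt : Nontrivial (Fin n) := Fin.nontrivial_iff_two_le.2 (by omega)
  have hcard : 2 * Nat.card (alternatingGroup (Fin n)) = n.factorial := by
    rw [two_mul_nat_card_alternatingGroup, Nat.card_perm, Nat.card_eq_fintype_card, Fintype.card_fin]
  have hna : ¬ IsMulCommutative (alternatingGroup (Fin n)) := by
    intro h
    have h1 : (Nat.card (alternatingGroup (Fin n))).Prime := by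
      let _ : CommGroup (alternatingGroup (Fin n)) :=
        { (inferInstance : Group (alternatingGroup (Fin n))) with mul_comm := h.is_comm.comm }
      exact IsSimpleGroup.prime_card
    have h2 : 2 ∣ Nat.card (alternatingGroup (Fin n)) := by
      have h4 : 4 ∣ n.factorial := Nat.dvd_factorial (by norm_num) (by omega)
      rw [← hcard] at h4
      omega
    have h3 : 3 ∣ Nat.card (alternatingGroup (Fin n)) := by
      have h4 : 3 ∣ n.factorial := Nat.dvd_factorial (by norm_num) (by omega)
      rw [← hcard] at h4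
      omega
    have h4 := (Nat.prime_dvd_prime_iff_eq Nat.prime_two h1).1 h2
    have h5 := (Nat.prime_dvd_prime_iff_eq Nat.prime_three h1).1 h3
    omega
  have hpn : p ≤ n := by
    apply prime_dvd_factorial_le H.hp
    rw [← hcard]
    exact H.dvd.mul_left 2
  have hp3 : p ≠ 3 := by
    intro h
    obtain ⟨g, hg⟩ := (Cfsg.Agent.S2467.result n 3 (by omega) Nat.prime_three (by norm_num) (by omega)).2 (by omega)
    refine H.not_adj hna (r := 2) le_rfl (g := g) ?_
    rw [hg, h]
  have hp2 := H.hp2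
  have hpp := H.hp
  have hp5 : 5 ≤ p := by
    have h2 := hpp.two_le
    have h4 : p ≠ 4 := by
      rintro rfl
      exact absurd hpp (by norm_num)
    omega
  have hodd : p % 2 = 1 := Nat.odd_iff.1 (hpp.odd_of_ne_two hp2)
  have hn2 : n ≤ p + 2 := by
    by_contra hcon
    obtain ⟨g, hg⟩ := (Cfsg.Agent.S2466.result n p 3 hpp Nat.prime_three hp2 (by norm_num) hp3 hpn (by omega)).2
      (by omega)
    refine H.not_adj hna (r := 3) (by norm_num) (g := g) ?_
    rw [hg]
  rcases Nat.lt_or_ge n 9 with h9 | h9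
  · -- `n = 7, 8`
    obtain ⟨x, hx, hxo⟩ := H.kill'
    have h1 := orderOf_aut_lt hn (by omega) x
    have hp7 : p = 5 := by
      by_contra h
      have h6 : 7 ≤ p := by
        have : p ≠ 6 := by omega
        omega
      have h7 : 7 ^ 2 ≤ p ^ 2 := Nat.pow_le_pow_left h6 2
      omega
    subst hp7
    have hn7 : n = 7 := by omega
    subst hn7
    obtain ⟨y, hy, hyo⟩ := H.kill
    have h2 := orderOf_aut_lt hn (by omega) y
    have hm2 : m = 2 := by
      have := H.hm
      by_contra h
      have h3 : 5 ^ 3 ≤ 5 ^ m := Nat.pow_le_pow_right (by norm_num) (by omega)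
      omega
    subst hm2
    have h7 : 7 ∣ Nat.card (alternatingGroup (Fin 7)) := by
      have h4 : 7 ∣ Nat.factorial 7 := Nat.dvd_factorial (by norm_num) le_rfl
      rw [← hcard] at h4
      omega
    rcases H.prime_dvd hna (by norm_num : Nat.Prime 7) h7 with h | h | h
    · omega
    · norm_num at h
    · norm_num at h
  · -- `n ≥ 9`
    have hAut : Nat.card (MulAut (alternatingGroup (Fin n))) ∣ n.factorial := by
      rw [← hcard]
      exact Cfsg.Agent.H244.A8.OutTop.card_aut_alt n hn
    have key : ∀ A B : ℕ, A * B = n.factorial → 0 < B → B ≤ p + 2 →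
        (∀ s : ℕ, s.Prime → s ∣ A → s = 2 ∨ s = 3 ∨ s = p ∨ s + 3 ≤ n) → False := by
      intro A B hAB hB hBp hA
      obtain ⟨-, -, h3⟩ := H.three_card hna (alt_twelve h9) (alt_three h9) (A := A) (B := B) (by rw [hAB]; exact hAut) hB
        (fun s hs hsA => by
          rcases hA s hs hsA with h | h | h | h
          · exact Or.inl h
          · exact Or.inr (Or.inl h)
          · exact Or.inr (Or.inr (Or.inl h))
          · by_cases h2 : s = 2
            · exact Or.inl h2
            by_cases h3 : s = 3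
            · exact Or.inr (Or.inl h3)
            exact Or.inr (Or.inr (Or.inr (adj_three hs h2 h3 h))))
      have h4 : p * 5 ≤ p ^ 2 := by rw [pow_two]; exact Nat.mul_le_mul_left p hp5
      omega
    have hpar : ∀ s : ℕ, s.Prime → s = 2 ∨ s % 2 = 1 := fun s hs => hs.eq_two_or_odd
    have h3 : p = n ∨ p = n - 1 ∨ p = n - 2 := by omega
    rcases h3 with h3 | h3 | h3
    · -- `p = n`
      obtain ⟨k, rfl⟩ : ∃ k, n = k + 3 := ⟨n - 3, by omega⟩
      refine key ((k + 3) * (k + 2) * k.factorial) (k + 1) ?_ (by omega) (by omega) ?_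
      · rw [Nat.factorial_succ, Nat.factorial_succ, Nat.factorial_succ]
        ring
      · intro s hs hsA
        rcases (Nat.Prime.dvd_mul hs).1 hsA with h | h
        · rcases (Nat.Prime.dvd_mul hs).1 h with h | h
          · rw [← h3] at h
            exact Or.inr (Or.inr (Or.inl ((Nat.prime_dvd_prime_iff_eq hs hpp).1 h)))
          · have h4 := Nat.le_of_dvd (by omega) h
            rcases hpar s hs with h5 | h5
            · exact Or.inl h5
            · have h6 : s ≠ k + 2 := by omega
              have h7 : s ≠ k + 1 := by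
                rintro rfl
                have h8 : k + 1 ∣ (k + 2) - (k + 1) := Nat.dvd_sub h dvd_rfl
                have h9' : k + 2 - (k + 1) = 1 := by omega
                rw [h9'] at h8
                have := Nat.le_of_dvd one_pos h8
                omega
              right; right; right; omega
        · have := prime_dvd_factorial_le hs h
          right; right; right; omega
    · -- `p = n - 1`
      refine key n.factorial 1 (mul_one _) one_pos (by omega) ?_
      intro s hs hsA
      have h4 := prime_dvd_factorial_le hs hsA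
      rcases hpar s hs with h5 | h5
      · exact Or.inl h5
      · by_cases h6 : s = p
        · exact Or.inr (Or.inr (Or.inl h6))
        · right; right; right; omega
    · -- `p = n - 2`
      obtain ⟨k, rfl⟩ : ∃ k, n = k + 1 := ⟨n - 1, by omega⟩
      refine key k.factorial (k + 1) ?_ (by omega) (by omega) ?_
      · rw [Nat.factorial_succ]
        ring
      intro s hs hsA
      have h4 := prime_dvd_factorial_le hs hsA
      rcases hpar s hs with h5 | h5
      · exact Or.inl h5
      · by_cases h6 : s = p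
        · exact Or.inr (Or.inr (Or.inl h6))
        · right; right; right; omega

/-- **The row `A_n`.** -/
theorem row_alt {S : Type*} [Group S] [Finite S] [IsSimpleGroup S] (_hna : ¬ IsMulCommutative S) {p m : ℕ}
    {X : Subgroup (MulAut S)} (H : Sit S p m X) {n : ℕ} (hn : 7 ≤ n) (e : S ≃* alternatingGroup (Fin n)) : False :=
  row hn (H.congr e)

end Cfsg.Agent.H724.PglAlt
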