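import Cfsg.Agent.H724.UThreeD
import Cfsg.Agent.CpQuot.Quo
import Cfsg.Agent.S0280
import Cfsg.Agent.ClassicalGeometry.PSL2Basic

/-!
# `PSU_3(q)`: regular unipotent elements (for S3829, task 308)

* `rc_center` : `RC (conj (φ s))` for a homomorphism `φ` from a quasisimple group with proper image: `φ s = 1` or `s`
  central;
* `sym` : the homomorphism `SL_2(F₀) → SU_3(F)` given by an adapted vector;
* `unip_eq_one` : `RC (f₁ g)`, `g ^ p = 1`, `p` the characteristic `≥ 5`: `f₁ g = 1`.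
-/

set_option autoImplicit false
set_option linter.unusedSectionVars false

namespace Cfsg.Agent.H724.UThree

open Subgroup Cfsg Cfsg.Agent.H459.Rad Cfsg.Agent.H459.Iface Matrix
open Cfsg.Agent.LieClassical.HermSiegel
open Cfsg.Agent.LieClassical.GUOrder (frob frob_apply frob_frob frob_herm mul_map_eq_one_iff card_GU_eq)
open Cfsg.Agent.LieClassical.HermBasic (card_fixed)
open Cfsg.Agent.ClassicalGeometry.PSUAutCount (gm toAut gm_mul gm_one gm_inv_mul gm_mul_inv gm_inv_mulVec gm_inj)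
open Cfsg.Agent.ClassicalGeometry.UnitAutBasic (pr pr_surjective)
open Cfsg.Agent.Schreier.PSU (f₁)

theorem rc_center {S K : Type*} [Group S] [Group K] [Finite K] (hS : IsQuasisimple S) (φ : S →* K) (s : S)
    (hR : RC (MulAut.conj (φ s))) (htop : φ.range ≠ ⊤) : φ s = 1 ∨ s ∈ center S := by
  by_cases h1 : φ s = 1
  · exact Or.inl h1
  right
  have hnt : Nontrivial φ.range := ⟨⟨⟨φ s, ⟨s, rfl⟩⟩, 1, fun h => h1 (congrArg Subtype.val h)⟩⟩
  have hq : IsQuasisimple φ.range := CpQuot.Quo.quasisimple hS φ.rangeRestrict φ.rangeRestrict_surjective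
  have hx : ∀ m ∈ φ.range, MulAut.conj (φ s) m ∈ φ.range := by
    rintro _ ⟨t, rfl⟩
    exact ⟨s * t * s⁻¹, by rw [MulAut.conj_apply, map_mul, map_mul, map_inv]⟩
  rw [← CpQuot.Quo.mem_center_iff' hS φ.rangeRestrict φ.rangeRestrict_surjective, mem_center_iff]
  rintro ⟨m, hm⟩
  have h2 := hR.eq_of_quasisimple htop hx hq hm
  rw [MulAut.conj_apply, mul_inv_eq_iff_eq_mul] at h2
  exact Subtype.ext h2.symm

variable {F : Type*} [Field F] [Fintype F] {q : ℕ}

/-- the fixed field of `x ↦ x ^ q` -/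
def FF (hF : Fintype.card F = q ^ 2) : Subfield F := RingHom.eqLocusField (frob hF) (RingHom.id F)

theorem mem_FF (hF : Fintype.card F = q ^ 2) {x : F} : x ∈ FF hF ↔ frob hF x = x := Iff.rfl

theorem card_FF (hF : Fintype.card F = q ^ 2) : Nat.card (FF hF) = q := card_fixed hF

/-- the symmetric square -/
def sq2 (a b c d : F) : Matrix (Fin 3) (Fin 3) F :=
  !![a * a, 2 * (a * b), 2 * (b * b); a * c, a * d + b * c, 2 * (b * d); 2⁻¹ * (c * c), c * d, d * d]

theorem sq2_mul (h2 : (2 : F) ≠ 0) (a b c d a' b' c' d' : F) :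
    sq2 (a * a' + b * c') (a * b' + b * d') (c * a' + d * c') (c * b' + d * d') = sq2 a b c d * sq2 a' b' c' d' := by
  have h3 : (2 : F) * 2⁻¹ = 1 := mul_inv_cancel₀ h2
  ext i j
  fin_cases i <;> fin_cases j <;>
    simp only [sq2, Matrix.mul_apply, Fin.sum_univ_three, Matrix.of_apply, Matrix.cons_val', Matrix.cons_val_zero,
      Matrix.cons_val_one, Matrix.cons_val, Matrix.cons_val_fin_one, Fin.zero_eta, Fin.mk_one, Fin.reduceFinMk]
  · linear_combination -(b * b * c' * c') * h3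
  · ring
  · ring
  · linear_combination -(b * d * c' * c') * h3
  · ring
  · ring
  · linear_combination (c * d * a' * c') * h3
  · linear_combination -(c * c * a' * b') * h3
  · linear_combination -(c * c * b' * b') * h3


theorem det_sq2 (h2 : (2 : F) ≠ 0) {a b c d : F} (h : a * d - b * c = 1) : (sq2 a b c d).det = 1 := by
  have h3 : (2 : F) * 2⁻¹ = 1 := mul_inv_cancel₀ h2
  have h4 : (sq2 a b c d).det = (a * d - b * c) ^ 3 := by
    rw [sq2, Matrix.det_fin_three]
    simp only [Matrix.of_apply, Matrix.cons_val', Matrix.cons_val_zero,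
      Matrix.cons_val_one, Matrix.cons_val, Matrix.cons_val_fin_one]
    linear_combination (b * b * c * c * (2 * a * d - (a * d + b * c))) * h3
  rw [h4, h, one_pow]

/-- the Gram matrix -/
def gram (r : F) : Matrix (Fin 3) (Fin 3) F := !![0, 0, r; 0, -r, 0; r, 0, 0]

theorem sq2_gram (h2 : (2 : F) ≠ 0) (r : F) {a b c d : F} (h : a * d - b * c = 1) :
    (sq2 a b c d)ᵀ * gram r * sq2 a b c d = gram r := by
  have h3 : (2 : F) * 2⁻¹ = 1 := mul_inv_cancel₀ h2
  ext i j
  fin_cases i <;> fin_cases j <;>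
    simp only [sq2, gram, Matrix.mul_apply, Fin.sum_univ_three, Matrix.transpose_apply, Matrix.of_apply,
      Matrix.cons_val', Matrix.cons_val_zero, Matrix.cons_val_one, Matrix.cons_val, Matrix.cons_val_fin_one,
      Fin.zero_eta, Fin.mk_one, Fin.reduceFinMk]
  · linear_combination (r * a * a * c * c) * h3
  · linear_combination (r * a * b * c * c) * h3
  · linear_combination (r * b * b * c * c) * h3 + r * (a * d - b * c + 1) * h
  · linear_combination (r * a * b * c * c) * h3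
  · linear_combination -(r * (a * d - b * c + 1)) * h
  · ring
  · linear_combination (r * b * b * c * c) * h3 + r * (a * d - b * c + 1) * h
  · ring
  · ring

theorem det_gram (r : F) : (gram r).det = r ^ 3 := by
  rw [gram, Matrix.det_fin_three]
  simp only [Matrix.of_apply, Matrix.cons_val', Matrix.cons_val_zero,
      Matrix.cons_val_one, Matrix.cons_val, Matrix.cons_val_fin_one]
  ring

/-- the matrix of the adapted basis -/
def bas (X : Matrix (Fin 3) (Fin 3) F) (w : Fin 3 → F) : Matrix (Fin 3) (Fin 3) F :=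
  Matrix.of fun i j => (![w, X *ᵥ w, X *ᵥ (X *ᵥ w)] j) i

theorem bas_mul_apply (A X : Matrix (Fin 3) (Fin 3) F) (w : Fin 3 → F) (i j : Fin 3) :
    (A * bas X w) i j = (A *ᵥ (![w, X *ᵥ w, X *ᵥ (X *ᵥ w)] j)) i := rfl

theorem gram_eq (hF : Fintype.card F = q ^ 2) (X : Matrix (Fin 3) (Fin 3) F) (w : Fin 3 → F) (i j : Fin 3) :
    ((bas X w)ᵀ * (bas X w).map (frob hF)) i j =
      hermForm 3 F q (![w, X *ᵥ w, X *ᵥ (X *ᵥ w)] i) (![w, X *ᵥ w, X *ᵥ (X *ᵥ w)] j) := rfl

theorem bas_gram (hF : Fintype.card F = q ^ 2) {g : SU 3 F q} {X : Matrix (Fin 3) (Fin 3) F} {w : Fin 3 → F} {r : F}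
    (h : Adapted hF g X w r) : (bas X w)ᵀ * (bas X w).map (frob hF) = gram r := by
  have h10 : hermForm 3 F q (X *ᵥ w) w = 0 := by rw [← frob_herm hF, h.h01, map_zero]
  have h20 : hermForm 3 F q (X *ᵥ (X *ᵥ w)) w = r := by rw [← frob_herm hF, h.h02, h.fa]
  have h21 : hermForm 3 F q (X *ᵥ (X *ᵥ w)) (X *ᵥ w) = 0 := by rw [← frob_herm hF, h.h12, map_zero]
  ext i j
  rw [gram_eq]
  fin_cases i <;> fin_cases j
  · exact h.h00
  · exact h.h01
  · exact h.h02
  · exact h10
  · exact h.h11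
  · exact h.h12
  · exact h20
  · exact h21
  · exact h.h22


theorem bas_det_ne (hF : Fintype.card F = q ^ 2) {g : SU 3 F q} {X : Matrix (Fin 3) (Fin 3) F} {w : Fin 3 → F} {r : F}
    (h : Adapted hF g X w r) : IsUnit (bas X w).det := by
  rw [isUnit_iff_ne_zero]
  intro h0
  have h1 := congrArg Matrix.det (bas_gram hF h)
  rw [Matrix.det_mul, Matrix.det_transpose, h0, zero_mul, det_gram] at h1
  exact pow_ne_zero 3 h.a0 h1.symm

/-- the matrix of an element of `SL_2(F₀)` -/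
def rep (hF : Fintype.card F = q ^ 2) (B : Matrix.SpecialLinearGroup (Fin 2) (FF hF)) : Matrix (Fin 3) (Fin 3) F :=
  sq2 (B.1 0 0 : F) (B.1 0 1 : F) (B.1 1 0 : F) (B.1 1 1 : F)

theorem rep_det (hF : Fintype.card F = q ^ 2) (B : Matrix.SpecialLinearGroup (Fin 2) (FF hF)) :
    ((B.1 0 0 : F)) * (B.1 1 1 : F) - (B.1 0 1 : F) * (B.1 1 0 : F) = 1 := by
  have h := B.2
  rw [Matrix.det_fin_two] at h
  have := congrArg (fun x : FF hF => (x : F)) h
  simpa using this

theorem rep_mul (hF : Fintype.card F = q ^ 2) (h2 : (2 : F) ≠ 0) (A B : Matrix.SpecialLinearGroup (Fin 2) (FF hF)) :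
    rep hF (A * B) = rep hF A * rep hF B := by
  rw [rep, rep, rep, ← sq2_mul h2]
  have h : ∀ i j, (((A * B).1 i j : FF hF) : F) = (A.1 i 0 : F) * (B.1 0 j : F) + (A.1 i 1 : F) * (B.1 1 j : F) := by
    intro i j
    have : (A * B).1 = A.1 * B.1 := rfl
    rw [this, Matrix.mul_apply, Fin.sum_univ_two]
    rfl
  rw [h, h, h, h]

theorem rep_one (hF : Fintype.card F = q ^ 2) : rep hF (1 : Matrix.SpecialLinearGroup (Fin 2) (FF hF)) = 1 := by
  have h : ∀ i j, ((((1 : Matrix.SpecialLinearGroup (Fin 2) (FF hF)).1 i j : FF hF)) : F) = (1 : Matrix (Fin 2) (Fin 2) F) i j := by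
    intro i j
    have : (1 : Matrix.SpecialLinearGroup (Fin 2) (FF hF)).1 = 1 := rfl
    rw [this, Matrix.one_apply, Matrix.one_apply]
    split_ifs <;> rfl
  rw [rep, h, h, h, h]
  ext i j
  fin_cases i <;> fin_cases j <;> simp [sq2]

theorem rep_map (hF : Fintype.card F = q ^ 2) (B : Matrix.SpecialLinearGroup (Fin 2) (FF hF)) :
    (rep hF B).map (frob hF) = rep hF B := by
  have h : ∀ x : FF hF, frob hF (x : F) = x := fun x => x.2
  have h2i : frob hF (2⁻¹ : F) = 2⁻¹ := by rw [map_inv₀, map_ofNat]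
  ext i j
  fin_cases i <;> fin_cases j <;>
    simp only [rep, sq2, Matrix.map_apply, Matrix.of_apply, Matrix.cons_val', Matrix.cons_val_zero,
      Matrix.cons_val_one, Matrix.cons_val, Matrix.cons_val_fin_one, Fin.zero_eta, Fin.mk_one, Fin.reduceFinMk,
      map_mul, map_add, h, h2i, map_ofNat]

/-- **The symmetric square in the adapted basis.** -/
noncomputable def sym (hF : Fintype.card F = q ^ 2) (h2 : (2 : F) ≠ 0) {g : SU 3 F q} {X : Matrix (Fin 3) (Fin 3) F}
    {w : Fin 3 → F} {r : F} (h : Adapted hF g X w r) : Matrix.SpecialLinearGroup (Fin 2) (FF hF) →* SU 3 F q where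
  toFun B := mkSU (bas X w * rep hF B * (bas X w)⁻¹) (by
      have h1 := congrArg Matrix.det (Matrix.mul_nonsing_inv _ (bas_det_ne hF h))
      rw [Matrix.det_mul, Matrix.det_one] at h1
      rw [Matrix.det_mul, Matrix.det_mul, rep, det_sq2 h2 (rep_det hF B), mul_one, h1]) (by
      rw [mul_map_eq_one_iff hF]
      have h1 := Matrix.mul_nonsing_inv _ (bas_det_ne hF h)
      have h3 : (bas X w).map (frob hF) * ((bas X w)⁻¹).map (frob hF) = 1 := by
        rw [← Matrix.map_mul, h1, Matrix.map_one _ (map_zero _) (map_one _)]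
      have h4 : ((bas X w)⁻¹)ᵀ * (bas X w)ᵀ = 1 := by
        rw [← Matrix.transpose_mul, h1, Matrix.transpose_one]
      have h5 := sq2_gram h2 r (rep_det hF B)
      rw [Matrix.map_mul, Matrix.map_mul, rep_map, Matrix.transpose_mul, Matrix.transpose_mul]
      calc ((bas X w)⁻¹)ᵀ * ((rep hF B)ᵀ * (bas X w)ᵀ) *
            ((bas X w).map (frob hF) * rep hF B * ((bas X w)⁻¹).map (frob hF))
          = ((bas X w)⁻¹)ᵀ * ((rep hF B)ᵀ * ((bas X w)ᵀ * (bas X w).map (frob hF)) * rep hF B) *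
              ((bas X w)⁻¹).map (frob hF) := by simp only [Matrix.mul_assoc]
        _ = ((bas X w)⁻¹)ᵀ * ((bas X w)ᵀ * (bas X w).map (frob hF)) * ((bas X w)⁻¹).map (frob hF) := by
            rw [bas_gram hF h, rep, h5]
        _ = (((bas X w)⁻¹)ᵀ * (bas X w)ᵀ) * ((bas X w).map (frob hF) * ((bas X w)⁻¹).map (frob hF)) := by
            simp only [Matrix.mul_assoc]
        _ = 1 := by rw [h3, h4, mul_one])
  map_one' := by
    apply mat_ext
    rw [mat_mkSU, mat_one, rep_one, mul_one, Matrix.mul_nonsing_inv _ (bas_det_ne hF h)]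
  map_mul' A B := by
    apply mat_ext
    rw [mat_mkSU, mat_mul, mat_mkSU, mat_mkSU, rep_mul hF h2]
    calc bas X w * (rep hF A * rep hF B) * (bas X w)⁻¹
        = bas X w * rep hF A * 1 * rep hF B * (bas X w)⁻¹ := by simp only [Matrix.mul_assoc, Matrix.one_mul]
      _ = _ := by rw [← Matrix.nonsing_inv_mul _ (bas_det_ne hF h)]; simp only [Matrix.mul_assoc]

/-- the unipotent element of `SL_2` -/
def uu (hF : Fintype.card F = q ^ 2) : Matrix.SpecialLinearGroup (Fin 2) (FF hF) :=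
  ⟨!![1, 0; 1, 1], by simp [Matrix.det_fin_two]⟩

theorem sym_uu (hF : Fintype.card F = q ^ 2) (h2 : (2 : F) ≠ 0) {g : SU 3 F q} {X : Matrix (Fin 3) (Fin 3) F}
    {w : Fin 3 → F} {r : F} (h : Adapted hF g X w r) : sym hF h2 h (uu hF) = g := by
  apply mat_ext
  have h1 : mat g * bas X w = bas X w * rep hF (uu hF) := by
    have hr : rep hF (uu hF) = !![1, 0, 0; 1, 1, 0; 2⁻¹, 1, 1] := by
      rw [rep, uu]
      ext i j
      fin_cases i <;> fin_cases j <;> simp [sq2]
    have hg : ∀ v, mat g *ᵥ v = v + X *ᵥ v + (2⁻¹ : F) • (X *ᵥ (X *ᵥ v)) := by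
      intro v
      rw [h.hm, add_mulVec, add_mulVec, one_mulVec, smul_mulVec, mulVec_mulVec]
    ext i j
    rw [bas_mul_apply, hg, hr, Matrix.mul_apply, Fin.sum_univ_three]
    have hX0 : X *ᵥ (0 : Fin 3 → F) = 0 := mulVec_zero X
    fin_cases j
    · show (w + X *ᵥ w + (2⁻¹ : F) • (X *ᵥ (X *ᵥ w))) i = w i * 1 + (X *ᵥ w) i * 1 + (X *ᵥ (X *ᵥ w)) i * 2⁻¹
      simp only [Pi.add_apply, Pi.smul_apply, smul_eq_mul]
      ring
    · show (X *ᵥ w + X *ᵥ (X *ᵥ w) + (2⁻¹ : F) • (X *ᵥ (X *ᵥ (X *ᵥ w)))) i =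
        w i * 0 + (X *ᵥ w) i * 1 + (X *ᵥ (X *ᵥ w)) i * 1
      rw [h.cube]
      simp only [Pi.add_apply, Pi.smul_apply, smul_eq_mul, Pi.zero_apply]
      ring
    · show (X *ᵥ (X *ᵥ w) + X *ᵥ (X *ᵥ (X *ᵥ w)) + (2⁻¹ : F) • (X *ᵥ (X *ᵥ (X *ᵥ (X *ᵥ w))))) i =
        w i * 0 + (X *ᵥ w) i * 0 + (X *ᵥ (X *ᵥ w)) i * 1
      rw [h.cube, hX0]
      simp only [Pi.add_apply, Pi.smul_apply, smul_eq_mul, Pi.zero_apply]
      ring
  show bas X w * rep hF (uu hF) * (bas X w)⁻¹ = mat g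
  rw [← h1, Matrix.mul_assoc, Matrix.mul_nonsing_inv _ (bas_det_ne hF h), Matrix.mul_one]

theorem uu_not_central (hF : Fintype.card F = q ^ 2) : uu hF ∉ center (Matrix.SpecialLinearGroup (Fin 2) (FF hF)) := by
  intro h
  have h1 := mem_center_iff.1 h ⟨!![1, 1; 0, 1], by simp [Matrix.det_fin_two]⟩
  have h2 : (!![1, 1; 0, 1] * !![1, 0; 1, 1] : Matrix (Fin 2) (Fin 2) (FF hF)) = !![1, 0; 1, 1] * !![1, 1; 0, 1] :=
    congrArg Subtype.val h1
  have h3 := congrFun (congrFun h2 0) 0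
  simp [Matrix.mul_apply, Fin.sum_univ_two] at h3


theorem card_sl (hF : Fintype.card F = q ^ 2) :
    Nat.card (Matrix.SpecialLinearGroup (Fin 2) (FF hF)) < Nat.card (PSU 3 F q) := by
  have hq := LieClassical.GUOrder.two_le hF
  have hft : Fintype (FF hF) := Fintype.ofFinite _
  have h1 : Nat.card (Matrix.SpecialLinearGroup (Fin 2) (FF hF)) = q * (q ^ 2 - 1) := by
    rw [ClassicalGeometry.PSL2Basic.card_SL2, ← Nat.card_eq_fintype_card, card_FF hF]
  have h2 := Cfsg.Agent.S0280.result hF 3 (by norm_num)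
  have h3 : q ^ (3 * (3 - 1) / 2) * ∏ i ∈ Finset.range 3, (if Even i then q ^ (i + 1) + 1 else q ^ (i + 1) - 1) =
      q ^ 3 * ((q + 1) * (q ^ 2 - 1) * (q ^ 3 + 1)) := by
    norm_num [Finset.prod_range_succ]
  rw [h3] at h2
  have hg : Nat.gcd 3 (q + 1) ≤ 3 := Nat.gcd_le_left _ (by norm_num)
  have h4 : 1 < q ^ 2 := by nlinarith
  have h5 : 0 < q ^ 2 - 1 := by omega
  rw [h1]
  by_contra hcon
  push Not at hcon
  have h6 : Nat.gcd 3 (q + 1) * ((q + 1) * Nat.card (PSU 3 F q)) ≤ 3 * ((q + 1) * (q * (q ^ 2 - 1))) :=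
    Nat.mul_le_mul hg (Nat.mul_le_mul_left _ hcon)
  rw [h2] at h6
  have h7 : q ^ 3 * ((q + 1) * (q ^ 2 - 1) * (q ^ 3 + 1)) = (q * (q + 1) * (q ^ 2 - 1)) * (q ^ 2 * (q ^ 3 + 1)) := by
    ring
  have h8 : 3 * ((q + 1) * (q * (q ^ 2 - 1))) = (q * (q + 1) * (q ^ 2 - 1)) * 3 := by ring
  rw [h7, h8] at h6
  have h9 : 0 < q * (q + 1) * (q ^ 2 - 1) := by positivity
  have h10 := Nat.le_of_mul_le_mul_left h6 h9
  nlinarith [pow_pos (by omega : 0 < q) 3]

/-- **Unipotent elements.** -/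
theorem unip_eq_one (hF : Fintype.card F = q ^ 2) {p : ℕ} [hp : Fact p.Prime] [hcp : CharP F p] (hp5 : 5 ≤ p) {g : SU 3 F q}
    (hg : g ^ p = 1) (hR : RC (f₁ (toGU g))) : f₁ (toGU g) = 1 := by
  have h2 : (2 : F) ≠ 0 := by
    intro h
    have h3 : p ∣ 2 := (CharP.cast_eq_zero_iff F p 2).1 (by exact_mod_cast h)
    have := Nat.le_of_dvd (by norm_num) h3
    omega
  have hq : 4 ≤ q := by
    obtain ⟨r, k, hr, hrc, hk, hk0⟩ := LieClassical.HermBasic.exists_prime_pow hF
    have hrp : r = p := CharP.eq F hrc hcp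
    subst hrp
    have h3 : r ^ 1 ≤ r ^ k := Nat.pow_le_pow_right (by omega) hk0
    rw [pow_one] at h3
    omega
  obtain ⟨N, hN⟩ : ∃ N, N = mat g - 1 := ⟨_, rfl⟩
  have hgN : mat g = 1 + N := by rw [hN]; abel
  have hN3 : N * N * N = 0 := by
    have := cube_zero hg
    rw [← hN, pow_succ, pow_two] at this
    exact this
  by_cases hN2 : N * N = 0
  · by_cases hN0 : N = 0
    · have : toGU g = 1 := by
        apply gm_inj
        rw [gm_toGU, hgN, hN0, add_zero, gm_one]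
      rw [this, map_one]
    obtain ⟨v, hv, hNv⟩ := exists_fixed hF hgN hN2 hN0
    obtain ⟨B, hB⟩ := LieClassical.GUOrder.exists_gu_map hF (herm_single 0 hF) hv
    have h3 : B⁻¹ * toGU g * B ∈ Hst hF := by
      refine ⟨1, ?_⟩
      have hB' : gm B *ᵥ e0 F = v := hB
      rw [gm_mul, gm_mul, ← mulVec_mulVec, ← mulVec_mulVec, hB', gm_toGU, hgN, add_mulVec, one_mulVec, hNv, add_zero,
        ← hB', gm_inv_mulVec, one_smul]
    have h4 := eq_one_of_fix hF hq h3 (by
      rw [map_mul, map_mul, map_inv]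
      have := RC_conj (f₁ B)⁻¹ hR
      rwa [inv_inv] at this)
    rw [map_mul, map_mul, map_inv] at h4
    have h5 : f₁ (toGU g) = f₁ B * ((f₁ B)⁻¹ * f₁ (toGU g) * f₁ B) * (f₁ B)⁻¹ := by group
    rw [h5, h4, mul_one, mul_inv_cancel]
  · obtain ⟨X, w, r, h⟩ := exists_adapted hF hgN hN3 hN2 h2
    have hfin : Finite (PSU 3 F q) := inferInstance
    have h3 := rc_center (SignalizersComponents.SLQuasisimple.isQuasisimple_two (by rw [card_FF hF]; exact hq))
      ((pr 3 F q).comp (sym hF h2 h)) (uu hF) (by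
        rw [MonoidHom.comp_apply, sym_uu, ← f₁_toGU]
        exact hR) (by
        intro htop
        have h4 := Subgroup.card_top (G := PSU 3 F q)
        rw [← htop] at h4
        have h5 : Nat.card ((pr 3 F q).comp (sym hF h2 h)).range ≤ Nat.card (Matrix.SpecialLinearGroup (Fin 2) (FF hF)) :=
          Nat.card_le_card_of_surjective _ ((pr 3 F q).comp (sym hF h2 h)).rangeRestrict_surjective
        have := card_sl hF
        omega)
    rcases h3 with h3 | h3
    · rw [MonoidHom.comp_apply, sym_uu] at h3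
      rw [f₁_toGU, h3, map_one]
    · exact absurd h3 (uu_not_central hF)

end Cfsg.Agent.H724.UThree
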