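import Cfsg.Agent.H724.RowTwoPsuB

/-!
# The row `PSU_3(q)`, `p = 2` (task 1533, for S3832, S4336): the general part of the case `q = 3`

* `outer_red` : an outer involution is conjugate to `A = diag(1, [[a, b], [b, d]])`, `A Ā = 1`;
* `outer_no` : it inverts no element of order seven;
* `inner_red` : an inner involution is conjugate to `diag(c, [[a, b], [b̄, d]])`;
* `inner_no` : `PS 4`.
-/

set_option autoImplicit false
set_option linter.unusedSectionVars false

namespace Cfsg.Agent.H724.RowPsu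

open Subgroup Cfsg Cfsg.Agent.H459.Rad Cfsg.Agent.H459.Iface Matrix Cfsg.Agent.H724.UThree
open Cfsg.Agent.H483.Rad23
open Cfsg.Agent.LieClassical.HermBasic Cfsg.Agent.LieClassical.HermSiegel
open Cfsg.Agent.LieClassical.GUOrder (ext1 ext1_isom det_ext1 eq_ext1_of_fix submatrix_isom)
open Cfsg.Agent.ClassicalGeometry.PSUAutCount (gm semiConj toAut gm_mul gm_one gm_mul_inv gm_inv_mul eq_of_toAut_eq
  sc gm_sc_mul toAut_sc_mul herm_gm act_semiConj herm_semi gm_mulVec_inv gm_inv_mulVec gm_inj)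
open Cfsg.Agent.ClassicalGeometry.UnitAutBasic (pr pr_surjective exists_scalar_of_mem_center)
open Cfsg.Agent.Schreier.PSU (f₁ f₂ toAut_eq mapGU conj_field toAut_pr' gm_mapGU act_semiConj_one')
open Cfsg.Agent.CpAutU.Desc (toAut_mul toAut_one mapGU_one gm_mapGU')

theorem tr_aut {K : Type*} [Group K] (a x : MulAut K) : tr (a : K ≃* K) x = a * x * a⁻¹ := by
  ext l
  rfl

theorem PS_conj {K : Type*} [Group K] {n : ℕ} {x : MulAut K} (a : MulAut K) (h : PS n x) : PS n (a * x * a⁻¹) := by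
  rw [← tr_aut]
  exact h.tr _

theorem TT_conj {K : Type*} [Group K] {x : MulAut K} (a : MulAut K) (h : TT x) : TT (a * x * a⁻¹) := by
  rw [← tr_aut]
  exact h.tr _

variable {F : Type*} [Field F] [Fintype F] {q : ℕ}

omit [Fintype F] in
theorem pow_seven {g : SU 3 F q} {M2 M4 : Matrix (Fin 3) (Fin 3) F} (h1 : mat g * mat g = M2) (h2 : M2 * M2 = M4)
    (h3 : M4 * M2 * mat g = 1) : g ^ 7 = 1 := by
  have e : g ^ 7 = (g * g) * (g * g) * (g * g) * g := by
    rw [show (7 : ℕ) = 2 + 2 + 2 + 1 from rfl, pow_add, pow_add, pow_add, pow_two, pow_one]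
  apply mat_ext
  rw [e, mat_mul, mat_mul, mat_mul, mat_mul, h1, h2, h3, mat_one]

omit [Fintype F] in
theorem pow_three {g : SU 3 F q} (h3 : mat g * mat g * mat g = 1) : g ^ 3 = 1 := by
  apply mat_ext
  rw [pow_succ, pow_two, mat_mul, mat_mul, h3, mat_one]

omit [Fintype F] in
theorem mat_conj {a k : SU 3 F q} {Y : Matrix (Fin 3) (Fin 3) F} (h : mat a * mat k = Y * mat a) :
    mat (a * k * a⁻¹) = Y := by
  rw [mat_mul, mat_mul, h, mul_assoc, ← mat_mul, mul_inv_cancel, mat_one, mul_one]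

/-- **Outer involutions, reduction.** -/
theorem outer_red (hF : Fintype.card F = q ^ 2) {A : GU 3 F q} {ρ : F ≃+* F} (hρ : ρ ≠ 1)
    (hx : toAut A ρ * toAut A ρ = 1) (hR : RC (toAut A ρ)) (hT : TT (toAut A ρ)) :
    ∃ (A1 : GU 3 F q) (a b d : F), TT (toAut A1 (conj hF)) ∧ gm A1 = !![1, 0, 0; 0, a, b; 0, b, d] ∧
      a * a ^ q + b * b ^ q = 1 ∧ b * b ^ q + d * d ^ q = 1 ∧ a * b ^ q + b * d ^ q = 0 := by
  obtain ⟨rfl, hA, hs⟩ := semi_invol hF hx hρ
  obtain ⟨v, hv, hv0⟩ := exists_fix_vec hF hA hs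
  obtain ⟨A1, B1, l1, hl1, hB1, hto, hx1, hR1, hfix1, -⟩ := step hF hx hR hv hv0
  obtain ⟨-, hA1, hs1⟩ := semi_invol hF hx1 hρ
  have hT1 : TT (toAut A1 (conj hF)) := by
    rw [hto]
    have := TT_conj (toAut B1 1)⁻¹ hT
    rwa [inv_inv] at this
  have h1 : gm A1 = ext1 1 ((gm A1).submatrix Fin.succ Fin.succ) := eq_ext1_of_fix hF (gm A1) (herm_gm A1) hfix1
  obtain ⟨C, hC⟩ : ∃ C, gm A1 = ext1 1 C := ⟨_, h1⟩
  rw [ext1_two] at hC
  have hC10 : C 1 0 = C 0 1 := by
    have := congrFun (congrFun hs1 1) 2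
    rw [Matrix.transpose_apply, hC] at this
    exact this
  rw [hC10] at hC
  have hcc : ∀ x : F, (conj hF) x = x ^ q := fun _ => rfl
  rw [hC] at hA1
  have a1 := congrFun (congrFun hA1 1) 1
  have a2 := congrFun (congrFun hA1 2) 2
  have a3 := congrFun (congrFun hA1 1) 2
  simp [Matrix.mul_apply, Fin.sum_univ_three, hcc] at a1 a2 a3
  exact ⟨A1, C 0 0, C 0 1, C 1 1, hT1, hC, a1, a2, a3⟩

/-- **Outer involutions, an inverted element of order seven.** -/
theorem outer_no (hF : Fintype.card F = q ^ 2) (hc : center (SU 3 F q) = ⊥) (hc' : center (PSU 3 F q) = ⊥)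
    {A : GU 3 F q} (hT : TT (toAut A (conj hF))) {g : SU 3 F q} (h7 : g ^ 7 = 1) (hg : g ≠ 1)
    (h : mat g * gm A * (mat g).map (conj hF) = gm A) : False := by
  have hinj : ∀ g : SU 3 F q, pr 3 F q g = 1 → g = 1 := by
    intro g hg
    have h1 : g ∈ center (SU 3 F q) := (QuotientGroup.eq_one_iff _).1 hg
    rwa [hc] at h1
  have hord : orderOf (pr 3 F q g) = 7 := by
    have := Fact.mk (by norm_num : Nat.Prime 7)
    exact orderOf_eq_prime (by rw [← map_pow, h7, map_one]) (fun h => hg (hinj _ h))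
  apply hT.no_inv hc' (by norm_num : Nat.Prime 7) (by norm_num) hord
  have h1 : g * semiConj A (conj hF) g = 1 := by
    apply mat_ext
    rw [mat_mul, gm_semi, mat_one]
    calc mat g * (gm A * (mat g).map (conj hF) * gm A⁻¹) = mat g * gm A * (mat g).map (conj hF) * gm A⁻¹ := by
          simp only [Matrix.mul_assoc]
      _ = 1 := by rw [h, gm_mul_inv]
  rw [toAut_pr', ← map_inv, eq_inv_of_mul_eq_one_right h1]

theorem toGU_mul {n : ℕ} (a b : SU n F q) : toGU (a * b) = toGU a * toGU b := gm_inj rfl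

theorem toGU_one {n : ℕ} : toGU (1 : SU n F q) = 1 := gm_inj rfl

/-- **Inner involutions, reduction.** -/
theorem inner_red (hF : Fintype.card F = q ^ 2) (hq : ¬ 2 ∣ q ^ 2 * (q ^ 2 - q + 1)) {A : GU 3 F q}
    (hx : toAut A 1 ^ 2 = 1) (hx1 : toAut A 1 ≠ 1) (hP : PS 4 (toAut A 1)) :
    ∃ (k : SU 3 F q) (c a b d : F), k * k = 1 ∧ k ≠ 1 ∧ PS 4 (MulAut.conj (pr 3 F q k)) ∧
      mat k = !![c, 0, 0; 0, a, b; 0, b ^ q, d] ∧ c ^ q = c ∧ a ^ q = a ∧ d ^ q = d ∧
      c * c = 1 ∧ a * a + b * b ^ q = 1 ∧ b ^ q * b + d * d = 1 ∧ a * b + b * d = 0 ∧ c * (a * d - b * b ^ q) = 1 := by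
  have hq0 : q ≠ 0 := by have := q_pos hF; omega
  obtain ⟨g, hg, hgx⟩ := exists_lin hF Nat.prime_two (by norm_num) hx
  rw [hgx] at hx1 hP
  have := Fact.mk Nat.prime_two
  obtain ⟨B, hB⟩ := exists_vec hF hq (A := toGU g) (by rw [← toGU_pow, hg, toGU_one])
  obtain ⟨A1, hA1⟩ : ∃ A1, A1 = B⁻¹ * toGU g * B := ⟨_, rfl⟩
  rw [← hA1] at hB
  have hdet : (gm A1).det = 1 := by
    have h1 : (gm B⁻¹).det * (gm B).det = 1 := by rw [← Matrix.det_mul, gm_inv_mul, Matrix.det_one]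
    rw [hA1, gm_mul, gm_mul, gm_toGU, Matrix.det_mul, Matrix.det_mul, mat_det, mul_one, h1]
  obtain ⟨k, hk⟩ := exists_toGU A1 hdet
  have hf1 : f₁ A1 = (f₁ B)⁻¹ * f₁ (toGU g) * f₁ B := by rw [hA1, map_mul, map_mul, map_inv]
  have hP1 : PS 4 (MulAut.conj (pr 3 F q k)) := by
    rw [← f₁_toGU, hk, hf1]
    have := PS_conj (f₁ B)⁻¹ hP
    rwa [inv_inv] at this
  have hk2 : k * k = 1 := by
    apply toGU_injective
    have h3 : toGU g * toGU g = 1 := by rw [← pow_two, ← toGU_pow, hg, toGU_one]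
    rw [toGU_mul, toGU_one, hk, hA1]
    calc B⁻¹ * toGU g * B * (B⁻¹ * toGU g * B) = B⁻¹ * (toGU g * toGU g) * B := by group
      _ = 1 := by rw [h3]; group
  have hk1 : k ≠ 1 := by
    rintro rfl
    apply hx1
    have h3 : f₁ (toGU g) = f₁ B * f₁ A1 * (f₁ B)⁻¹ := by rw [hf1]; group
    rw [h3, ← hk, toGU_one, map_one]
    group
  obtain ⟨c, hc⟩ := hB
  rw [← hk, gm_toGU] at hc
  have hmm : mat k * mat k = 1 := by rw [← mat_mul, hk2, mat_one]
  have hun : (mat k)ᵀ * (mat k).map (conj hF) = 1 := by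
    have := Cit.FourU.mat_of_gm hF (toGU k)
    rwa [gm_toGU] at this
  have hmc : (mat k).map (conj hF) * (mat k).map (conj hF) = 1 := by
    rw [← Matrix.map_mul, hmm]
    exact Matrix.map_one _ (map_zero _) (map_one _)
  have hT : (mat k)ᵀ = (mat k).map (conj hF) := by
    calc (mat k)ᵀ = (mat k)ᵀ * ((mat k).map (conj hF) * (mat k).map (conj hF)) := by rw [hmc, mul_one]
      _ = (mat k).map (conj hF) := by rw [← mul_assoc, hun, one_mul]
  have hT' : ∀ i j, mat k j i = mat k i j ^ q := fun i j => congrFun (congrFun hT i) j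
  have hcol : ∀ i, mat k i 0 = c * (e0 F) i := by
    intro i
    have := congrFun hc i
    rw [e0, mulVec_single_one] at this
    exact this
  have z1 : mat k 1 0 = 0 := by rw [hcol]; simp [e0]
  have z2 : mat k 2 0 = 0 := by rw [hcol]; simp [e0]
  have z3 : mat k 0 1 = 0 := by rw [hT' 1 0, z1, zero_pow hq0]
  have z4 : mat k 0 2 = 0 := by rw [hT' 2 0, z2, zero_pow hq0]
  have z5 : mat k 2 1 = (mat k 1 2) ^ q := hT' 1 2
  have hX : mat k = !![mat k 0 0, 0, 0; 0, mat k 1 1, mat k 1 2; 0, mat k 1 2 ^ q, mat k 2 2] := by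
    ext i j : 1
    fin_cases i <;> fin_cases j
    · rfl
    · exact z3
    · exact z4
    · exact z1
    · rfl
    · rfl
    · exact z2
    · exact z5
    · rfl
  have a0 := congrFun (congrFun hmm 0) 0
  have a1 := congrFun (congrFun hmm 1) 1
  have a2 := congrFun (congrFun hmm 2) 2
  have a3 := congrFun (congrFun hmm 1) 2
  have hd := mat_det k
  rw [Matrix.det_fin_three] at hd
  simp [Matrix.mul_apply, Fin.sum_univ_three, z1, z2, z3, z4, z5] at a0 a1 a2 a3 hd
  exact ⟨k, _, _, _, _, hk2, hk1, hP1, hX, (hT' 0 0).symm, (hT' 1 1).symm, (hT' 2 2).symm, a0, a1, a2, a3,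
    by linear_combination hd⟩

/-- **Inner involutions, three conjugates.** -/
theorem inner_no (hc : center (SU 3 F q) = ⊥) (hc' : center (PSU 3 F q) = ⊥) {k a b : SU 3 F q} (hk : k * k = 1)
    (hk1 : k ≠ 1) (hP : PS 4 (MulAut.conj (pr 3 F q k))) {Y W U V T T2 T4 : Matrix (Fin 3) (Fin 3) F}
    (f1 : mat a * mat k = Y * mat a) (f2 : mat b * mat k = W * mat b) (f3 : mat k * Y = U) (f4 : U * U * U = 1)
    (f5 : Y * W = V) (f6 : V * V * V = 1) (f7 : U * W = T) (f8 : T * T = T2) (f9 : T2 * T2 = T4)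
    (f10 : T4 * T2 * T = 1) : False := by
  have hfin : Finite (PSU 3 F q) := inferInstance
  have hinj : ∀ g : SU 3 F q, pr 3 F q g = 1 → g = 1 := by
    intro g hg
    have h1 : g ∈ center (SU 3 F q) := (QuotientGroup.eq_one_iff _).1 hg
    rwa [hc] at h1
  have hy := mat_conj f1
  have hw := mat_conj f2
  have r1 : (k * (a * k * a⁻¹)) ^ 3 = 1 := pow_three (by rw [mat_mul, hy, f3, f4])
  have r2 : (a * k * a⁻¹ * (b * k * b⁻¹)) ^ 3 = 1 := pow_three (by rw [mat_mul, hy, hw, f5, f6])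
  have r3 : (k * (a * k * a⁻¹) * (b * k * b⁻¹)) ^ 7 = 1 := by
    have hmT : mat (k * (a * k * a⁻¹) * (b * k * b⁻¹)) = T := by rw [mat_mul, mat_mul, hy, hw, f3, f7]
    exact pow_seven (by rw [hmT, f8]) f9 (by rw [hmT, f10])
  have t1 := congrArg (pr 3 F q) r1
  have t2 := congrArg (pr 3 F q) r2
  have t3 := congrArg (pr 3 F q) r3
  simp only [map_mul, map_inv, map_pow, map_one] at t1 t2 t3
  exact false_of_three hc' (x := pr 3 F q k) (by rw [← map_mul, hk, map_one])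
    (fun h => hk1 (hinj _ h)) hP (pr 3 F q a) (pr 3 F q b) t1 t2 t3 (by decide) (by decide) (by decide)

end Cfsg.Agent.H724.RowPsu
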