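import Cfsg.Agent.H724.UThreeB
import Cfsg.Agent.S0278

/-!
# `PSU_3(q)`: linear automorphisms of prime order (for S3829, task 308)

* `exists_lin` : a linear automorphism of prime order `p ≠ 3` is conjugation by an element of order `p` of `SU_3`;
* `exists_vec` : `p` prime to `q²(q² - q + 1)`: an element of order `p` has a nonisotropic eigenvector of norm one;
* `semi_false` : the case `p ∣ q² - 1`.
-/

set_option autoImplicit false
set_option linter.unusedSectionVars false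

namespace Cfsg.Agent.H724.UThree

open Subgroup Cfsg Cfsg.Agent.H459.Rad Cfsg.Agent.H459.Iface Matrix
open Cfsg.Agent.LieClassical.HermBasic Cfsg.Agent.LieClassical.HermSiegel
open Cfsg.Agent.LieClassical.GUOrder (ext1 ext1_isom det_ext1 eq_ext1_of_fix submatrix_isom)
open Cfsg.Agent.ClassicalGeometry.PSUAutCount (gm semiConj toAut gm_mul gm_one gm_mul_inv gm_inv_mul eq_of_toAut_eq
  sc gm_sc_mul toAut_sc_mul herm_gm act_semiConj herm_semi gm_mulVec_inv gm_inv_mulVec gm_inj)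
open Cfsg.Agent.ClassicalGeometry.UnitAutBasic (pr pr_surjective exists_scalar_of_mem_center)
open Cfsg.Agent.Schreier.PSU (f₁ f₂ toAut_eq mapGU conj_field toAut_pr' gm_mapGU act_semiConj_one')
open Cfsg.Agent.CpAutU.Desc (toAut_mul toAut_one mapGU_one exists_conj exists_scalar)

variable {F : Type*} [Field F] [Fintype F] {q : ℕ}

omit [Fintype F] in
theorem gm_pow {n : ℕ} (A : GU n F q) (k : ℕ) : gm (A ^ k) = gm A ^ k := by
  induction k with
  | zero => rw [pow_zero, pow_zero, gm_one]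
  | succ k ih => rw [pow_succ, pow_succ, gm_mul, ih]

/-- an element of `SU_3` as an element of `GU_3` -/
def toGU {n : ℕ} (g : SU n F q) : GU n F q := ⟨Matrix.SpecialLinearGroup.toGL g.1, g.2⟩

omit [Fintype F] in
theorem gm_toGU {n : ℕ} (g : SU n F q) : gm (toGU g) = mat g := rfl

omit [Fintype F] in
theorem f₁_toGU {n : ℕ} (g : SU n F q) : f₁ (toGU g) = MulAut.conj (pr n F q g) :=
  Cfsg.Agent.Schreier.PSU.f₁_eq_conj (toGU g) g rfl

omit [Fintype F] in
theorem exists_toGU {n : ℕ} (A : GU n F q) (h : (gm A).det = 1) : ∃ g : SU n F q, toGU g = A :=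
  ⟨mkSU (gm A) h (fun u v => herm_gm _ u v), gm_inj rfl⟩

omit [Fintype F] in
theorem toGU_pow {n : ℕ} (g : SU n F q) (k : ℕ) : toGU (g ^ k) = toGU g ^ k := by
  have h : ∀ a b : SU n F q, toGU (a * b) = toGU a * toGU b := fun a b => gm_inj rfl
  induction k with
  | zero => rw [pow_zero, pow_zero]; exact gm_inj rfl
  | succ k ih => rw [pow_succ, pow_succ, h, ih]

omit [Fintype F] in
theorem toGU_injective {n : ℕ} : Function.Injective (toGU : SU n F q → GU n F q) := by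
  intro a b h
  apply mat_ext
  rw [← gm_toGU, ← gm_toGU, h]

/-- **Linear automorphisms of prime order `≠ 3` are inner.** -/
theorem exists_lin (hF : Fintype.card F = q ^ 2) {p : ℕ} (hp : p.Prime) (hp3 : p ≠ 3) {A : GU 3 F q}
    (hx : toAut A 1 ^ p = 1) : ∃ g : SU 3 F q, g ^ p = 1 ∧ toAut A 1 = f₁ (toGU g) := by
  -- `3 m = 1 + p k`
  obtain ⟨m, k, hmk⟩ : ∃ m k : ℕ, 3 * m = 1 + p * k := by
    have hc : Nat.Coprime 3 p := (Nat.coprime_primes Nat.prime_three hp).2 (fun h => hp3 h.symm)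
    obtain ⟨m, hm⟩ := Nat.exists_mul_mod_eq_one_of_coprime hc hp.one_lt
    refine ⟨m, 3 * m / p, ?_⟩
    have := Nat.div_add_mod (3 * m) p
    omega
  have hd := LieClassical.GUOrder.det_mul_frob_det hF (gm A) (herm_gm A)
  set d := (gm A).det with hdd
  have hd' : d * d ^ q = 1 := by rw [← pow_succ']; exact hd
  have hd0 : d ≠ 0 := left_ne_zero_of_mul_eq_one hd'
  have hdi : d⁻¹ * d⁻¹ ^ q = 1 := by rw [inv_pow, ← mul_inv, hd', inv_one]
  -- `x³` is inner
  obtain ⟨B, hB⟩ : ∃ B : GU 3 F q, B = sc 3 ⟨d⁻¹, hdi⟩ * A ^ 3 := ⟨_, rfl⟩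
  have hBdet : (gm B).det = 1 := by
    rw [hB, gm_sc_mul, gm_pow, Matrix.det_smul, Matrix.det_pow, Fintype.card_fin, ← hdd, ← mul_pow, inv_mul_cancel₀ hd0,
      one_pow]
  have hf : ∀ C : GU 3 F q, f₁ C = toAut C 1 := fun _ => rfl
  have hBf : f₁ B = f₁ A ^ 3 := by
    rw [hf, hB, toAut_sc_mul, ← hf, map_pow]
  have hxA : f₁ A ^ p = 1 := hx
  have hx3m : f₁ A ^ (3 * m) = f₁ A := by
    rw [hmk, pow_add, pow_mul, hxA, one_pow, mul_one, pow_one]
  have hBm : f₁ (B ^ m) = f₁ A := by rw [map_pow, hBf, ← pow_mul, hx3m]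
  have hBmdet : (gm (B ^ m)).det = 1 := by rw [gm_pow, Matrix.det_pow, hBdet, one_pow]
  -- `(B ^ m) ^ p` is a scalar
  have h1 : toAut (1 : GU 3 F q) 1 = toAut ((B ^ m) ^ p) 1 := by
    rw [← hf, ← hf, map_one, map_pow, hBm, hxA]
  obtain ⟨-, c, hc, hc'⟩ := eq_of_toAut_eq hF le_rfl h1
  rw [gm_one] at hc'
  have hc3 : c ^ 3 = 1 := by
    have h2 := congrArg Matrix.det hc'
    rw [gm_pow, Matrix.det_pow, hBmdet, one_pow, Matrix.det_smul, Matrix.det_one, Fintype.card_fin, mul_one] at h2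
    exact h2.symm
  obtain ⟨g, hg⟩ := exists_toGU ((B ^ m) ^ (3 * m)) (by rw [gm_pow, Matrix.det_pow, hBmdet, one_pow])
  refine ⟨g, ?_, ?_⟩
  · apply toGU_injective
    rw [toGU_pow, hg]
    apply gm_inj
    have h3 : ((B ^ m) ^ (3 * m)) ^ p = (((B ^ m) ^ p) ^ 3) ^ m := by
      simp only [← pow_mul]
      congr 1
      ring
    rw [h3, gm_pow, gm_pow, hc', smul_pow, one_pow, hc3, one_smul, one_pow]
    rfl
  · rw [hg, map_pow, hBm, hx3m]
    exact (hf A).symm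

/-! ### the stabiliser of a nondegenerate line -/

/-- the stabiliser of the line of the first basis vector -/
def Hst (hF : Fintype.card F = q ^ 2) : Subgroup (GU 3 F q) where
  carrier := {A | ∃ c : F, gm A *ᵥ e0 F = c • e0 F}
  one_mem' := ⟨1, by rw [gm_one, one_mulVec, one_smul]⟩
  mul_mem' := by
    rintro A B ⟨a, ha⟩ ⟨b, hb⟩
    exact ⟨b * a, by rw [gm_mul, ← mulVec_mulVec, hb, mulVec_smul, ha, smul_smul]⟩
  inv_mem' := by
    rintro A ⟨a, ha⟩
    have h1 : e0 F = a • (gm A⁻¹ *ᵥ e0 F) := by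
      rw [← mulVec_smul, ← ha, gm_inv_mulVec]
    have ha0 : a ≠ 0 := by
      rintro rfl
      rw [zero_smul] at h1
      exact e0_ne_zero h1
    exact ⟨a⁻¹, by
      conv_rhs => rw [h1]
      rw [smul_smul, inv_mul_cancel₀ ha0, one_smul]⟩

omit [Fintype F] in
theorem ext1_mul' {n : ℕ} (c d : F) (A B : Matrix (Fin n) (Fin n) F) :
    ext1 c A * ext1 d B = ext1 (c * d) (A * B) := by
  ext i j
  refine Fin.cases ?_ (fun i => ?_) i <;> refine Fin.cases ?_ (fun j => ?_) j <;>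
    simp [ext1, Matrix.mul_apply, Fin.sum_univ_succ]

theorem gm_mkGU (hF : Fintype.card F = q ^ 2) {n : ℕ} (M : Matrix (Fin n) (Fin n) F)
    (h : ∀ u v : Fin n → F, hermForm n F q (M *ᵥ u) (M *ᵥ v) = hermForm n F q u v) :
    gm (LieClassical.GUOrder.mkGU hF M h) = M := LieClassical.GUOrder.coe_mkGU hF M h

/-- `diag(c, B)` -/
noncomputable def tw (hF : Fintype.card F = q ^ 2) :
    (powMonoidHom (q + 1) : Fˣ →* Fˣ).ker × GU 2 F q →* GU 3 F q where
  toFun x := LieClassical.GUOrder.mkGU hF (ext1 ((x.1 : Fˣ) : F) (gm x.2)) (ext1_isom _ (by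
    have h1 : (x.1 : Fˣ) ^ (q + 1) = 1 := x.1.2
    rw [← Units.val_pow_eq_pow_val, h1, Units.val_one]) _ (herm_gm x.2))
  map_one' := by
    apply gm_inj
    rw [gm_mkGU]
    exact ext1_one
  map_mul' x y := by
    apply gm_inj
    rw [gm_mul, gm_mkGU, gm_mkGU, gm_mkGU, ext1_mul']
    rfl

theorem tw_injective (hF : Fintype.card F = q ^ 2) : Function.Injective (tw hF) := by
  intro x y h
  have h1 : ext1 ((x.1 : Fˣ) : F) (gm x.2) = ext1 ((y.1 : Fˣ) : F) (gm y.2) := by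
    have := congrArg gm h
    rwa [tw, MonoidHom.coe_mk, OneHom.coe_mk, gm_mkGU, gm_mkGU] at this
  apply Prod.ext
  · apply Subtype.ext
    apply Units.ext
    have := congrFun (congrFun h1 0) 0
    simpa [ext1] using this
  · exact gm_inj (ext1_inj h1)

theorem tw_le (hF : Fintype.card F = q ^ 2) : (tw hF).range ≤ Hst hF := by
  rintro _ ⟨x, rfl⟩
  refine ⟨((x.1 : Fˣ) : F), ?_⟩
  rw [tw, MonoidHom.coe_mk, OneHom.coe_mk, gm_mkGU, ext1_e0]

theorem card_dvd_Hst (hF : Fintype.card F = q ^ 2) : (q + 1) * Nat.card (GU 2 F q) ∣ Nat.card (Hst hF) := by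
  have h1 : Nat.card (tw hF).range = (q + 1) * Nat.card (GU 2 F q) := by
    rw [Nat.card_congr (MonoidHom.ofInjective (tw_injective hF)).symm.toEquiv, Nat.card_prod,
      LieClassical.GUOrder.card_ker_pow hF]
  rw [← h1]
  have := LieClassical.GUOrder.finite_GU (F := F) (q := q) 3
  exact Subgroup.card_dvd_of_le (tw_le hF)

theorem card_GU_three (hF : Fintype.card F = q ^ 2) :
    Nat.card (GU 3 F q) = q ^ 3 * ((q + 1) * (q ^ 2 - 1) * (q ^ 3 + 1)) := by
  have := Cfsg.Agent.S0277.result hF 3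
  rw [this]
  norm_num [Finset.prod_range_succ]

theorem card_GU_two (hF : Fintype.card F = q ^ 2) :
    Nat.card (GU 2 F q) = q * ((q + 1) * (q ^ 2 - 1)) := by
  have := Cfsg.Agent.S0277.result hF 2
  rw [this]
  norm_num [Finset.prod_range_succ]

theorem index_Hst (hF : Fintype.card F = q ^ 2) : (Hst hF).index ∣ q ^ 2 * (q ^ 2 - q + 1) := by
  have hq := LieClassical.GUOrder.two_le hF
  have h1 := (Hst hF).card_mul_index
  obtain ⟨k, hk⟩ := card_dvd_Hst hF
  rw [card_GU_three hF, hk, card_GU_two hF] at h1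
  refine ⟨k, ?_⟩
  have h2 : 0 < (q + 1) * (q * ((q + 1) * (q ^ 2 - 1))) := by
    have h3 : 1 < q ^ 2 := by nlinarith
    have h4 : 0 < q ^ 2 - 1 := by omega
    positivity
  apply Nat.eq_of_mul_eq_mul_left h2
  have h3 : q ^ 3 + 1 = (q + 1) * (q ^ 2 - q + 1) := by
    have h4 : q ≤ q ^ 2 := Nat.le_self_pow (by norm_num) q
    zify [h4]
    ring
  calc (q + 1) * (q * ((q + 1) * (q ^ 2 - 1))) * (q ^ 2 * (q ^ 2 - q + 1))
      = q ^ 3 * ((q + 1) * (q ^ 2 - 1) * ((q + 1) * (q ^ 2 - q + 1))) := by ring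
    _ = (q + 1) * (q * ((q + 1) * (q ^ 2 - 1))) * k * (Hst hF).index := by rw [← h3, ← h1]
    _ = _ := by ring

/-- **A nonisotropic eigenvector.** -/
theorem exists_vec (hF : Fintype.card F = q ^ 2) {p : ℕ} [hp : Fact p.Prime] (hpq : ¬ p ∣ q ^ 2 * (q ^ 2 - q + 1))
    {A : GU 3 F q} (hA : A ^ p = 1) : ∃ B : GU 3 F q, B⁻¹ * A * B ∈ Hst hF := by
  have := LieClassical.GUOrder.finite_GU (F := F) (q := q) 3
  have hnd : ¬ p ∣ Nat.card (GU 3 F q ⧸ Hst hF) := fun h => hpq (h.trans (index_Hst hF))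
  have hP : IsPGroup p (zpowers A) := by
    intro x
    refine ⟨1, ?_⟩
    obtain ⟨k, hk⟩ := x.2
    apply Subtype.ext
    rw [Subgroup.coe_pow, Subgroup.coe_one, ← hk]
    show (A ^ k) ^ p ^ 1 = 1
    rw [pow_one, ← zpow_natCast, ← _root_.zpow_mul, mul_comm, _root_.zpow_mul, zpow_natCast, hA, _root_.one_zpow]
  obtain ⟨y, hy⟩ := hP.nonempty_fixed_point_of_prime_not_dvd_card (GU 3 F q ⧸ Hst hF) hnd
  obtain ⟨B, rfl⟩ := QuotientGroup.mk_surjective y
  refine ⟨B, ?_⟩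
  have h1 := hy ⟨A, mem_zpowers A⟩
  have h2 : (QuotientGroup.mk (A * B) : GU 3 F q ⧸ Hst hF) = QuotientGroup.mk B := h1
  have h3 := QuotientGroup.eq.1 h2.symm
  rw [mul_assoc]
  exact h3

omit [Fintype F] in
theorem ext1_two (c : F) (M : Matrix (Fin 2) (Fin 2) F) :
    ext1 c M = !![c, 0, 0; 0, M 0 0, M 0 1; 0, M 1 0, M 1 1] := by
  ext i j
  fin_cases i <;> fin_cases j <;> rfl

omit [Fintype F] in
theorem ext1_smul_one (a : F) :
    ext1 1 (a • (1 : Matrix (Fin 2) (Fin 2) F)) = !![1, 0, 0; 0, a, 0; 0, 0, a] := by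
  rw [ext1_two]
  simp

theorem herm_single (i : Fin 3) (hF : Fintype.card F = q ^ 2) :
    hermForm 3 F q (Pi.single i 1) (Pi.single i 1) = 1 := by
  rw [LieClassical.GUOrder.herm_def, Finset.sum_eq_single i]
  · simp
  · intro j _ hj
    rw [Pi.single_eq_of_ne hj, zero_mul]
  · intro h; exact absurd (Finset.mem_univ _) h

/-- eigenvalues at unit vectors have norm one -/
theorem norm_of_eig (hF : Fintype.card F = q ^ 2) {A : GU 3 F q} {i : Fin 3} {c : F}
    (h : gm A *ᵥ (Pi.single i 1 : Fin 3 → F) = c • (Pi.single i 1 : Fin 3 → F)) : c * c ^ q = 1 := by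
  have h1 := herm_gm A (Pi.single i 1) (Pi.single i 1)
  rw [h, LieClassical.GUOrder.herm_smul_left hF, LieClassical.GUOrder.herm_smul_right hF, herm_single i hF,
    LieClassical.GUOrder.frob_apply] at h1
  linear_combination h1

theorem inv_norm {c : F} (hc : c * c ^ q = 1) : c⁻¹ * c⁻¹ ^ q = 1 := by rw [inv_pow, ← mul_inv, hc, inv_one]

/-- scaling to fix the first basis vector -/
theorem exists_fix (hF : Fintype.card F = q ^ 2) {A : GU 3 F q} (hA : A ∈ Hst hF) :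
    ∃ (c : F) (A' : GU 3 F q), c ≠ 0 ∧ gm A' = c⁻¹ • gm A ∧ f₁ A' = f₁ A ∧ gm A' *ᵥ e0 F = e0 F ∧
      gm A *ᵥ e0 F = c • e0 F := by
  obtain ⟨c, hc⟩ := hA
  have hc1 := norm_of_eig hF hc
  have hc0 : c ≠ 0 := left_ne_zero_of_mul_eq_one hc1
  refine ⟨c, sc 3 ⟨c⁻¹, inv_norm hc1⟩ * A, hc0, by rw [gm_sc_mul], ?_, ?_, hc⟩
  · show toAut _ 1 = toAut A 1
    rw [toAut_sc_mul]
  · rw [gm_sc_mul, smul_mulVec, hc, smul_smul, inv_mul_cancel₀ hc0, one_smul]

/-- **An automorphism fixing a nondegenerate line is trivial.** -/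
theorem eq_one_of_fix (hF : Fintype.card F = q ^ 2) (hq : 4 ≤ q) {A : GU 3 F q} (hA : A ∈ Hst hF)
    (hR : RC (f₁ A)) : f₁ A = 1 := by
  obtain ⟨c, A1, hc0, hA1, hf1, hfix, -⟩ := exists_fix hF hA
  rw [← hf1] at hR ⊢
  obtain ⟨a, ha⟩ := lin_scalar hF hq hfix hR
  -- the second basis vector
  have h1 : gm A1 *ᵥ (Pi.single 1 1 : Fin 3 → F) = a • (Pi.single 1 1 : Fin 3 → F) := by
    rw [ha, ext1_smul_one, mulVec_single_one]
    ext i
    fin_cases i <;> simp [Matrix.col]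
  have ha1 := norm_of_eig hF h1
  have ha0 : a ≠ 0 := left_ne_zero_of_mul_eq_one ha1
  set W := toGU (rot hF) with hW
  have hWm : gm W = !![0, 1, 0; -1, 0, 0; 0, 0, 1] := rfl
  have hWe : gm W *ᵥ e0 F = -(Pi.single 1 1 : Fin 3 → F) := by
    rw [hWm, e0, mulVec_single_one]
    ext i
    fin_cases i <;> simp [Matrix.col]
  have hmem : W⁻¹ * A1 * W ∈ Hst hF := by
    refine ⟨a, ?_⟩
    rw [gm_mul, gm_mul, ← mulVec_mulVec, ← mulVec_mulVec, hWe, mulVec_neg, h1, ← smul_neg, ← hWe, mulVec_smul,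
      gm_inv_mulVec]
  obtain ⟨c', A2, hc0', hA2, hf2, hfix2, hc2⟩ := exists_fix hF hmem
  have hca : c' = a := by
    have h3 : gm (W⁻¹ * A1 * W) *ᵥ e0 F = a • e0 F := by
      rw [gm_mul, gm_mul, ← mulVec_mulVec, ← mulVec_mulVec, hWe, mulVec_neg, h1, ← smul_neg, ← hWe, mulVec_smul,
        gm_inv_mulVec]
    rw [hc2] at h3
    have := congrFun h3 0
    simpa [e0] using this
  subst hca
  have hR2 : RC (f₁ A2) := by
    rw [hf2, map_mul, map_mul, map_inv]
    have := RC_conj (f₁ W)⁻¹ hR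
    rwa [inv_inv] at this
  obtain ⟨b, hb⟩ := lin_scalar hF hq hfix2 hR2
  have h4 : gm W * gm A2 = c'⁻¹ • (gm A1 * gm W) := by
    rw [hA2, gm_mul, gm_mul, Matrix.mul_smul, ← mul_assoc, ← mul_assoc, gm_mul_inv, one_mul]
  rw [hb, ha, hWm, ext1_smul_one, ext1_smul_one] at h4
  have e1 := congrFun (congrFun h4 0) 1
  have e2 := congrFun (congrFun h4 2) 2
  simp [Matrix.mul_apply, Fin.sum_univ_three, hc0'] at e1 e2
  have e3 : c' = 1 := by
    rw [e2] at e1
    exact (inv_eq_one.1 e1.symm)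
  have h5 : A1 = 1 := by
    apply gm_inj
    rw [ha, e3, one_smul, ext1_one, gm_one]
  rw [h5, map_one]

end Cfsg.Agent.H724.UThree
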